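import Groth.Agent.StabK3.Dual
import Groth.Agent.WeilFin.DualPow
import Groth.Agent.PnReg.WedgeLine
import Groth.Agent.P1Split.Dim
import Groth.Agent.S0927
import Groth.Agent.ExtShX.RelTensor

/-!
Euler characteristics attached to a Lazarsfeld–Mukai bundle.
-/

set_option autoImplicit false
set_option backward.isDefEq.respectTransparency false
set_option backward.isDefEq.respectTransparency.types false
set_option linter.style.haveILetI false
set_option linter.unusedSectionVars false

universe u

open CategoryTheory CategoryTheory.Limits AlgebraicGeometry TopologicalSpace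
open Groth.Agent.Intersect Groth.Agent.StabLib

noncomputable section

namespace Groth.Agent.StabK3

section Basic

variable (k : Type u) [Field k] {X : Scheme.{u}} [X.Over (Spec (CommRingCat.of k))]
  [IsProper (X ↘ Spec (CommRingCat.of k))]

/-- Cohomology dimensions of a push-forward along a closed immersion over the base. -/
theorem h_push {C : Scheme.{u}} [C.Over (Spec (CommRingCat.of k))] (i : C ⟶ X) [IsClosedImmersion i]
    (hi : i ≫ (X ↘ Spec (CommRingCat.of k)) = C ↘ Spec (CommRingCat.of k)) {G : C.Modules} (hG : Coh.IsQCoh G)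
    (q : ℕ) : CurveRR.h k ((Scheme.Modules.pushforward i).obj G) q = CurveRR.h k G q := by
  haveI := hG
  obtain ⟨e⟩ := CohFinite.hh_push_linear k i hi G (CohQC.directAcyclic_of_isAffineHom i G) q
  exact e.finrank_eq.symm

/-- Euler characteristics of a push-forward along a closed immersion over the base. -/
theorem euler_push {C : Scheme.{u}} [C.Over (Spec (CommRingCat.of k))] (i : C ⟶ X) [IsClosedImmersion i]
    (hi : i ≫ (X ↘ Spec (CommRingCat.of k)) = C ↘ Spec (CommRingCat.of k)) {G : C.Modules} (hG : Coh.IsQCoh G) :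
    Curv2.euler k X ((Scheme.Modules.pushforward i).obj G) = Curv2.euler k C G := by
  refine finsum_congr fun q => ?_
  have h := h_push k i hi hG q
  rw [CurveRR.h, CurveRR.h] at h
  rw [h]

/-- Cohomology dimensions of the tensor product with a free module. -/
theorem h_free_tensor {M : X.Modules} (hM : Coh.IsCoh M) (n q : ℕ) :
    CurveRR.h k (CohB1.tensorMod (FlatMod.freeMod X n) M) q = n * CurveRR.h k M q := by
  haveI := CurveRR.isNoetherian_of_proper k X
  obtain ⟨f⟩ := P1Split.nonempty_hh_coprod (A := k) (fun _ : Fin n => Coh.structureModule X) M q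
  haveI : ∀ _t : Fin n, Module.Finite k (Coh.HH X (CohB1.tensorMod (Coh.structureModule X) M) q) := fun _ =>
    CohFinite.finite_proper k X _ (CurveRR.isCoh_tensor' RefStalk.isCoh_structureModule hM) q
  refine f.finrank_eq.trans ?_
  rw [Module.finrank_pi_fintype, Finset.sum_const, Finset.card_univ, Fintype.card_fin, smul_eq_mul]
  exact congrArg (n * ·) (CurveRR.h_eq_of_iso (TMul.leftUnitIso M) q)

/-- Euler characteristic of the tensor product with a free module, on a surface. -/
theorem euler_free_tensor (hdim : topologicalKrullDim X = 2) {M : X.Modules} (hM : Coh.IsCoh M) (n : ℕ) :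
    Curv2.euler k X (CohB1.tensorMod (FlatMod.freeMod X n) M) = n * Curv2.euler k X M := by
  rw [SurfAdj.euler_eq3 k hdim, SurfAdj.euler_eq3 k hdim, h_free_tensor k hM, h_free_tensor k hM,
    h_free_tensor k hM]
  push_cast
  ring

/-- Euler characteristic of a free module, on a surface. -/
theorem euler_free (hdim : topologicalKrullDim X = 2) (n : ℕ) :
    Curv2.euler k X (FlatMod.freeMod X n) = n * Curv2.euler k X (Coh.structureModule X) := by
  haveI := CurveRR.isNoetherian_of_proper k X
  rw [← euler_free_tensor k hdim RefStalk.isCoh_structureModule n]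
  exact (CurveRR.euler_eq_of_iso (SecTwist.unitorR (FlatMod.freeMod X n))).symm

/-- Tensoring an exact sequence with a bundle: Euler characteristics. -/
theorem euler_add_tensor {S : ShortComplex X.Modules} (hS : S.ShortExact) (h₁ : Coh.IsCoh S.X₁)
    (h₂ : Coh.IsCoh S.X₂) (h₃ : Coh.IsCoh S.X₃) {E : X.Modules} (hE : FlatMod.IsFinLocFree E) :
    Curv2.euler k X (CohB1.tensorMod S.X₂ E) =
      Curv2.euler k X (CohB1.tensorMod S.X₁ E) + Curv2.euler k X (CohB1.tensorMod S.X₃ E) := by
  haveI := CurveRR.isNoetherian_of_proper k X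
  have hc := K0Coh.isCoh_of_isFinLocFree hE
  have h := CurveRR.euler_add (k := k) (PnReg.shortExact_tensor hE hS)
  dsimp only at h
  exact h (CurveRR.isCoh_tensor' h₁ hc) (CurveRR.isCoh_tensor' h₂ hc) (CurveRR.isCoh_tensor' h₃ hc)

/-- The quotient by the ideal of a closed immersion, twisted by a bundle. -/
theorem euler_quot_bundle {C : Scheme.{u}} [C.Over (Spec (CommRingCat.of k))] (i : C ⟶ X) [IsClosedImmersion i]
    (hi : i ≫ (X ↘ Spec (CommRingCat.of k)) = C ↘ Spec (CommRingCat.of k)) {E : X.Modules}
    (hE : FlatMod.IsFinLocFree E) :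
    Curv2.euler k X (CohB1.tensorMod (ClSub.quotMod i.ker) E) =
      Curv2.euler k C ((Scheme.Modules.pullback i).obj E) := by
  haveI : IsIso i.toImage := inferInstance
  haveI := CurveRR.unitToPush_isIso i.toImage
  have hfac : i.toImage ≫ i.imageι = i := i.toImage_imageι
  let e : ClSub.quotMod i.ker ≅ (Scheme.Modules.pushforward i).obj (Coh.structureModule C) :=
    (Scheme.Modules.pushforward i.ker.subschemeι).mapIso (asIso (ClSub.unitToPush i.toImage)) ≪≫
      ((Scheme.Modules.pushforwardComp i.toImage i.imageι).app _) ≪≫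
      (Scheme.Modules.pushforwardCongr hfac).app _
  rw [CurveRR.euler_eq_of_iso (PicGrp.tensorModIso e (Iso.refl E) ≪≫ TMul.commIso _ _ ≪≫
    (S0927.projIso i E hE).app (Coh.structureModule C) ≪≫
    (Scheme.Modules.pushforward i).mapIso (SecTwist.unitorR ((Scheme.Modules.pullback i).obj E)))]
  exact euler_push k i hi (LocFree.isQCoh_of_isFinLocFree (DerPerf.isFinLocFree_pullback i hE))

/-- Euler characteristic on the curve of a bundle twisted by a line bundle. -/
theorem euler_push_tensor {C : Scheme.{u}} [C.Over (Spec (CommRingCat.of k))] [IsIntegral C]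
    (i : C ⟶ X) [IsClosedImmersion i]
    (hi : i ≫ (X ↘ Spec (CommRingCat.of k)) = C ↘ Spec (CommRingCat.of k))
    [IsProper (C ↘ Spec (CommRingCat.of k))] (hC : topologicalKrullDim C = 1) {A : C.Modules}
    (hA : PicF.IsInvertible A) {E : X.Modules} {n : ℕ} (hE : FlatMod.IsFinLocFreeOfRank n E) :
    Curv2.euler k X (CohB1.tensorMod ((Scheme.Modules.pushforward i).obj A) E) =
      Curv2.euler k X (CohB1.tensorMod (ClSub.quotMod i.ker) E) - n * Curv2.euler k C (Coh.structureModule C) +
        n * Curv2.euler k C A := by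
  haveI := CurveRR.isNoetherian_of_proper k X
  haveI := CurveRR.isNoetherian_of_proper k C
  have hl := Nagata.isFinLocFree_of_rank' hE
  have hl' := DerPerf.isFinLocFree_pullback i hl
  have hE' : FlatMod.IsFinLocFreeOfRank n ((Scheme.Modules.pullback i).obj E) :=
    CurveRR.Multi.isFinLocFreeOfRank_pullback i hE
  have h1 := CurveRR.euler_tensor (k := k) hC.le hE' A (CurveRR.isCoh_of_inv hA)
  have h2 := CurveRR.euler_tensor (k := k) hC.le hE' (Coh.structureModule C) RefStalk.isCoh_structureModule
  rw [CurveRR.finrank_stalk_inv hA] at h1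
  rw [CurveRR.finrank_stalk_inv TMul.isInvertible_structureModule,
    CurveRR.euler_eq_of_iso (SecTwist.unitorR ((Scheme.Modules.pullback i).obj E))] at h2
  rw [euler_quot_bundle k i hi hl, CurveRR.euler_eq_of_iso (TMul.commIso _ E ≪≫ (S0927.projIso i E hl).app A),
    Functor.comp_obj, euler_push k i hi (G := (S0927.tens ((Scheme.Modules.pullback i).obj E)).obj A)
      (CurveRR.isCoh_tensor' (K0Coh.isCoh_of_isFinLocFree hl') (CurveRR.isCoh_of_inv hA)).1]
  change Curv2.euler k C (CohB1.tensorMod ((Scheme.Modules.pullback i).obj E) A) = _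
  omega

end Basic

section Main

variable (k : Type u) [Field k] [IsAlgClosed k] [CharZero k] {X : Scheme.{u}}
  [X.Over (Spec (CommRingCat.of k))]
  [IsProper (X ↘ Spec (CommRingCat.of k))] [IsIntegral X] [Smooth (X ↘ Spec (CommRingCat.of k))]
  (hdim : topologicalKrullDim X = 2)
  (hK : Canon.IsTopDiff (X ↘ Spec (CommRingCat.of k)) 2 (Coh.structureModule X))
  (hq : Module.finrank k (Coh.HH X (Coh.structureModule X) 1) = 0)
  {C : Scheme.{u}} [C.Over (Spec (CommRingCat.of k))] [IsIntegral C] (i : C ⟶ X) [IsClosedImmersion i]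
  (hi : i ≫ (X ↘ Spec (CommRingCat.of k)) = C ↘ Spec (CommRingCat.of k))
  [IsProper (C ↘ Spec (CommRingCat.of k))] (hC : topologicalKrullDim C = 1)
  {A : C.Modules} (hA : PicF.IsInvertible A) {e : ℕ}
  (lam : FlatMod.freeMod X e ⟶ (Coh.push i).obj A) [Epi lam]

include hdim hK hq hi hC hA

/-- The Euler characteristic of the endomorphisms of a Lazarsfeld–Mukai bundle. -/
theorem euler_endSheaf :
    Curv2.euler k X (RefHull.homSh (kernel lam) (kernel lam)) =
      2 * (e : ℤ) * e - 2 * e * Curv2.euler k C A + 2 * Curv2.euler k C (Coh.structureModule C) := by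
  haveI := CurveRR.isNoetherian_of_proper k X
  haveI := CurveRR.isNoetherian_of_proper k C
  haveI := isIntegral_ker i
  have hC1 : topologicalKrullDim (i.ker.support : Set X) = 1 := (dim_support_ker i).trans hC
  let F := kernel lam
  have hFr := isFinLocFreeOfRank_lm k hdim i hC hA lam
  have hFl := isFinLocFree_kernel k hdim i hC hA lam
  have hF := isCoh_lm k hdim i hC hA lam
  have hDr := isFinLocFreeOfRank_dual hFr
  have hDl : FlatMod.IsFinLocFree (RefHull.dual F) := ResDesc.isFinLocFree_dual hFl
  have hP : Coh.IsCoh ((Coh.push i).obj A) := SerrePn.isCoh_push i (CurveRR.isCoh_of_inv hA)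
  have hfree := NegFilt.isCoh_freeMod (X := X) e
  have hO : Coh.IsCoh (Coh.structureModule X) := RefStalk.isCoh_structureModule
  have hS := CurveRR.shortExact_ker lam
  have hI := SurfAdj.inv_ideal k hdim i.ker hC1
  have hχO := euler_structure k hdim hK hq
  -- the bundle
  have hχF : Curv2.euler k X (RefHull.dual F) = 2 * e - Curv2.euler k C A := by
    rw [euler_dual k hdim hK hFl]
    have h := CurveRR.euler_add (k := k) hS
    dsimp only at h
    have h' := h hF hfree hP
    rw [euler_free k hdim, hχO] at h'
    have h2 : Curv2.euler k X ((Coh.push i).obj A) = Curv2.euler k C A :=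
      euler_push k i hi (TMul.isQCoh_of_isInvertible hA)
    show Curv2.euler k X F = _
    change (e : ℤ) * 2 = Curv2.euler k X F + Curv2.euler k X ((Coh.push i).obj A) at h'
    rw [h2] at h'
    linarith
  -- the curve
  have hQ : Curv2.euler k X (ClSub.quotMod i.ker) = Curv2.euler k C (Coh.structureModule C) := by
    rw [CurveRR.euler_eq_of_iso (SecTwist.unitorR (ClSub.quotMod i.ker)).symm,
      euler_quot_bundle k i hi (ResDesc.isFinLocFree_of_isInvertible TMul.isInvertible_structureModule)]
    exact CurveRR.euler_eq_of_iso (DerPerf.pullUnitIso i)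
  have hII : FGA.intNum k X 2 ![ClSub.idealMod i.ker, ClSub.idealMod i.ker] (Coh.structureModule X) =
      -2 * Curv2.euler k C (Coh.structureModule C) := by
    have h := SurfAdj.adj k hdim hK i.ker hC1
    have hz : FGA.intNum k X 2 ![ClSub.idealMod i.ker, Coh.structureModule X] (Coh.structureModule X) = 0 := by
      have h0 : (FGA.intNum k X 2 ![ClSub.idealMod i.ker, Coh.structureModule X] (Coh.structureModule X) : ℚ) = 0 := by
        rw [SurfAdj.intNum_inter k hdim, Nakai.inter_comm, Nakai.inter_one]
      exact_mod_cast h0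
    rw [hz, sub_zero, hQ] at h
    exact h
  obtain ⟨hIc, hQc⟩ := CurveRR.isCoh_idealMod i.ker
  have hχI : Curv2.euler k X (ClSub.idealMod i.ker) = 2 - Curv2.euler k C (Coh.structureModule C) := by
    have h := CurveRR.euler_add (k := k) (CurveRR.ideal_shortExact i.ker)
    dsimp only at h
    have h' := h hIc hO hQc
    linarith
  -- the inverse of the ideal
  let N := RefHull.dual (ClSub.idealMod i.ker)
  have hNi : PicF.IsInvertible N := W7Hull.isInvertible_dual hI
  have hNl := ResDesc.isFinLocFree_of_isInvertible hNi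
  haveI := W7Hull.isIso_evDual hI
  let eN : CohB1.tensorMod N (ClSub.idealMod i.ker) ≅ Coh.structureModule X :=
    TMul.commIso _ _ ≪≫ asIso (W7Hull.evDual (ClSub.idealMod i.ker))
  have hχN : Curv2.euler k X N = 2 - Curv2.euler k C (Coh.structureModule C) :=
    (euler_dual k hdim hK (ResDesc.isFinLocFree_of_isInvertible hI)).trans hχI
  have hPN : Curv2.euler k X (CohB1.tensorMod ((Coh.push i).obj A) N) =
      Curv2.euler k C A - 2 * Curv2.euler k C (Coh.structureModule C) := by
    have h : Curv2.euler k X (CohB1.tensorMod ((Scheme.Modules.pushforward i).obj A) N) = _ :=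
      euler_push_tensor k i hi hC hA (CurveRR.isFinLocFreeOfRank_one hNi)
    have h2 := SurfAdj.deg_inv k hdim i.ker hC1 (N := N) ⟨eN⟩
    change Curv2.euler k X (CohB1.tensorMod ((Scheme.Modules.pushforward i).obj A) N) = _
    push_cast at h
    linarith
  -- the dual bundle twisted by the ideal
  have hID : Curv2.euler k X (CohB1.tensorMod (ClSub.idealMod i.ker) (RefHull.dual F)) =
      (e : ℤ) * (2 - Curv2.euler k C (Coh.structureModule C)) - Curv2.euler k C A +
        2 * Curv2.euler k C (Coh.structureModule C) := by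
    obtain ⟨d⟩ := WeilFin.nonempty_dualTensor (A := F) hNl
    haveI := ExtShX.isIso_bidualMap (ResDesc.isFinLocFree_of_isInvertible hI)
    rw [CurveRR.euler_eq_of_iso (TMul.commIso _ _ ≪≫
      PicGrp.tensorModIso (Iso.refl (RefHull.dual F)) (asIso (RefHull.bidualMap (ClSub.idealMod i.ker))) ≪≫ d.symm),
      euler_dual k hdim hK (ResDesc.isFinLocFree_tensorMod hFl hNl)]
    have h := euler_add_tensor k hS hF hfree hP hNl
    change Curv2.euler k X (CohB1.tensorMod (FlatMod.freeMod X e) N) =
      Curv2.euler k X (CohB1.tensorMod F N) + Curv2.euler k X (CohB1.tensorMod ((Coh.push i).obj A) N) at h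
    rw [euler_free_tensor k hdim (CurveRR.isCoh_of_inv hNi), hPN, hχN] at h
    linarith
  -- the dual bundle on the curve
  have hQD : Curv2.euler k X (CohB1.tensorMod (ClSub.quotMod i.ker) (RefHull.dual F)) =
      2 * e - Curv2.euler k C A - ((e : ℤ) * (2 - Curv2.euler k C (Coh.structureModule C)) - Curv2.euler k C A +
        2 * Curv2.euler k C (Coh.structureModule C)) := by
    have h := euler_add_tensor k (CurveRR.ideal_shortExact i.ker) hIc hO hQc hDl
    change Curv2.euler k X (CohB1.tensorMod (Coh.structureModule X) (RefHull.dual F)) =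
      Curv2.euler k X (CohB1.tensorMod (ClSub.idealMod i.ker) (RefHull.dual F)) +
        Curv2.euler k X (CohB1.tensorMod (ClSub.quotMod i.ker) (RefHull.dual F)) at h
    rw [CurveRR.euler_eq_of_iso (TMul.leftUnitIso (RefHull.dual F)), hχF, hID] at h
    linarith
  have hPD : Curv2.euler k X (CohB1.tensorMod ((Coh.push i).obj A) (RefHull.dual F)) = _ :=
    euler_push_tensor k i hi hC hA hDr
  haveI := ExtShX.isIso_dualTensorTo hFl F
  have hEnd := euler_add_tensor k hS hF hfree hP hDl
  change Curv2.euler k X (CohB1.tensorMod (FlatMod.freeMod X e) (RefHull.dual F)) =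
      Curv2.euler k X (CohB1.tensorMod F (RefHull.dual F)) +
        Curv2.euler k X (CohB1.tensorMod ((Coh.push i).obj A) (RefHull.dual F)) at hEnd
  rw [euler_free_tensor k hdim (K0Coh.isCoh_of_isFinLocFree hDl), hχF, hPD, hQD,
    CurveRR.euler_eq_of_iso (TMul.commIso F (RefHull.dual F) ≪≫ asIso (ExtShX.dualTensorTo F F))] at hEnd
  linarith

end Main

end Groth.Agent.StabK3

namespace Groth.Agent.StabK3

/-- The rank of the trivial bundle is the number of sections of the line bundle. -/
theorem h0_eq_rank (k : Type u) [Field k] [IsAlgClosed k] {X : Scheme.{u}} [X.Over (Spec (CommRingCat.of k))]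
    [IsProper (X ↘ Spec (CommRingCat.of k))] [IsIntegral X] (hdim : topologicalKrullDim X = 2)
    {C : Scheme.{u}} [C.Over (Spec (CommRingCat.of k))] (i : C ⟶ X) [IsClosedImmersion i]
    (hi : i ≫ (X ↘ Spec (CommRingCat.of k)) = C ↘ Spec (CommRingCat.of k)) {A : C.Modules}
    (hA : PicF.IsInvertible A) {e : ℕ} (lam : FlatMod.freeMod X e ⟶ (Coh.push i).obj A)
    (hlam : Function.Bijective (Sheaf.H.map ((SheafOfModules.toSheaf _).map lam) 0)) :
    CurveRR.h k A 0 = e := by
  haveI := CurveRR.isNoetherian_of_proper k X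
  let f := LinearEquiv.ofBijective (CohFinite.hhMap k lam 0) hlam
  have h1 : CurveRR.h k (FlatMod.freeMod X e) 0 = CurveRR.h k ((Scheme.Modules.pushforward i).obj A) 0 :=
    f.finrank_eq
  rw [h_push k i hi (TMul.isQCoh_of_isInvertible hA),
    ← CurveRR.h_eq_of_iso (SecTwist.unitorR (FlatMod.freeMod X e)) 0,
    h_free_tensor k RefStalk.isCoh_structureModule, ConnDiv.h0_structure, mul_one] at h1
  exact h1.symm

end Groth.Agent.StabK3
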