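import Groth.Agent.StabK3.Dual
import Groth.Agent.SerrePn.HomTwist
import Mathlib.Algebra.Homology.DerivedCategory.Ext.MapBijective
import Mathlib.Algebra.Homology.DerivedCategory.Ext.Linear
import Mathlib.CategoryTheory.Adjunction.Limits

/-!
Ext groups are invariant under twisting; Serre duality for Ext into an invertible module.
-/

set_option autoImplicit false
set_option backward.isDefEq.respectTransparency false
set_option backward.isDefEq.respectTransparency.types false
set_option linter.style.haveILetI false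
set_option linter.unusedSectionVars false

universe u

open CategoryTheory CategoryTheory.Limits AlgebraicGeometry TopologicalSpace Abelian

noncomputable section

namespace Groth.Agent.StabK3

section Tens

variable {X : Scheme.{u}} (T : X.Modules)

instance tens_additive : (SerrePn.tens T).Additive where
  map_add {_ _} {φ ψ} := CohFinite.tmap_add φ ψ T

instance tens_linear (k : Type u) [CommRing k] [X.Over (Spec (CommRingCat.of k))] :
    (SerrePn.tens T).Linear k where
  map_smul φ a := SerrePn.tmap_smul k φ a T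

variable (k : Type u) [Field k] [X.Over (Spec (CommRingCat.of k))] [HasExt.{u} X.Modules]

/-- Twisting by an invertible module does not change Ext groups. -/
theorem ext_tens_equiv {T T' : X.Modules} (θ : CohB1.tensorMod T T' ≅ Coh.structureModule X) (A B : X.Modules)
    (n : ℕ) : Nonempty (Ext A B n ≃ₗ[k] Ext (CohB1.tensorMod A T) (CohB1.tensorMod B T) n) := by
  haveI := SerrePn.enoughInjectives (X := X)
  haveI : (SerrePn.tens T).IsEquivalence :=
    (SerrePn.tensEquiv θ (TMul.commIso T' T ≪≫ θ)).isEquivalence_functor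
  haveI : PreservesFiniteLimits (SerrePn.tens T) := inferInstance
  haveI : PreservesFiniteColimits (SerrePn.tens T) := inferInstance
  exact ⟨LinearEquiv.ofBijective ((SerrePn.tens T).mapExtLinearMap k A B n)
    ((SerrePn.tens T).mapExt_bijective_of_preservesInjectiveObjects A B n)⟩

end Tens

section Surface

variable (k : Type u) [Field k] [IsAlgClosed k] {X : Scheme.{u}} [X.Over (Spec (CommRingCat.of k))]
  [IsProper (X ↘ Spec (CommRingCat.of k))] [IsIntegral X] [Smooth (X ↘ Spec (CommRingCat.of k))]
  (hdim : topologicalKrullDim X = 2)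
  (hK : Canon.IsTopDiff (X ↘ Spec (CommRingCat.of k)) 2 (Coh.structureModule X))
  [HasExt.{u} X.Modules]

include hdim hK

/-- Serre duality for Ext groups into an invertible module. -/
theorem finrank_ext_line {L T : X.Modules} (θ : CohB1.tensorMod T L ≅ Coh.structureModule X) {A : X.Modules}
    (hA : Coh.IsCoh (CohB1.tensorMod A T)) (m : ℕ) (hm : m ≤ 2) :
    Module.finrank k (Ext A L m) = CurveRR.h k (CohB1.tensorMod A T) (2 - m) := by
  haveI := CurveRR.isNoetherian_of_proper k X
  haveI := SurfAdj.smooth2 k hdim (X := X)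
  obtain ⟨N, ι, hι₁, hι⟩ := SurfAdj.exists_emb k hdim (X := X)
  haveI := hι₁
  obtain ⟨t, ht⟩ := ExtFund.exists_trace_smooth ι hι (Coh.structureModule X) hK
  obtain ⟨g⟩ := (SerrePn.duality_of_cm ι hι
    (fun x hx => ExtFund.cm_dim_of_smooth (X ↘ Spec (CommRingCat.of k)) 2 x hx)
    (Coh.structureModule X) RefStalk.isCoh_structureModule t ht (CohB1.tensorMod A T) hA m).1 hm
  obtain ⟨e⟩ := ext_tens_equiv k θ A L m
  have i : CohB1.tensorMod L T ≅ Coh.structureModule X := TMul.commIso L T ≪≫ θ
  let p : Ext (CohB1.tensorMod A T) (CohB1.tensorMod L T) m →ₗ[k]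
      Ext (CohB1.tensorMod A T) (Coh.structureModule X) m :=
    (Ext.mk₀ i.hom).postcompOfLinear k _ (add_zero m)
  let q : Ext (CohB1.tensorMod A T) (Coh.structureModule X) m →ₗ[k]
      Ext (CohB1.tensorMod A T) (CohB1.tensorMod L T) m :=
    (Ext.mk₀ i.inv).postcompOfLinear k _ (add_zero m)
  have hpq : p ∘ₗ q = LinearMap.id := LinearMap.ext fun x => by
    show (x.comp (Ext.mk₀ i.inv) (add_zero m)).comp (Ext.mk₀ i.hom) (add_zero m) = x
    rw [Ext.comp_assoc_of_third_deg_zero, Ext.mk₀_comp_mk₀, Iso.inv_hom_id, Ext.comp_mk₀_id]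
  have hqp : q ∘ₗ p = LinearMap.id := LinearMap.ext fun x => by
    show (x.comp (Ext.mk₀ i.hom) (add_zero m)).comp (Ext.mk₀ i.inv) (add_zero m) = x
    rw [Ext.comp_assoc_of_third_deg_zero, Ext.mk₀_comp_mk₀, Iso.hom_inv_id, Ext.comp_mk₀_id]
  have e2 : Ext (CohB1.tensorMod A T) (CohB1.tensorMod L T) m ≃ₗ[k] Ext (CohB1.tensorMod A T) (Coh.structureModule X) m :=
    LinearEquiv.ofLinearMap p q hpq hqp
  exact (e.trans (e2.trans g)).finrank_eq.trans Subspace.dual_finrank_eq

end Surface

end Groth.Agent.StabK3
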