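import Groth.Agent.StabK3.H1Line
import Groth.Agent.StabK3.TwExt
import Groth.Agent.W7Exist.Supp
import Mathlib.CategoryTheory.Abelian.CommSq
import Groth.Agent.Nakai.SurfSeq
import Groth.Agent.ParaFLib.Ext
import Groth.Agent.StabLib.MuIso
import Groth.Agent.StabLib.Endo

/-!
Non-split extensions which fail to be locally free.
-/

set_option autoImplicit false
set_option backward.isDefEq.respectTransparency false
set_option backward.isDefEq.respectTransparency.types false
set_option linter.style.haveILetI false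
set_option linter.unusedSectionVars false
set_option linter.style.longLine false

universe u

open CategoryTheory CategoryTheory.Limits AlgebraicGeometry TopologicalSpace Abelian
open Groth.Agent.WeakAssLib (mgerm mgerm_res)

noncomputable section

namespace Groth.Agent.StabK3

section General

universe w v u₀

variable {C : Type u₀} [Category.{v} C] [Abelian C] [HasExt.{w} C]

/-- Every class of degree one is the class of an extension. -/
theorem exists_extension [EnoughInjectives C] {A Q : C} (x : Ext Q A 1) :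
    ∃ (M : C) (f : A ⟶ M) (g : M ⟶ Q) (z : f ≫ g = 0) (h : (ShortComplex.mk f g z).ShortExact),
      h.extClass = x := by
  let i := Injective.ι A
  have hJ : (ShortComplex.mk i (cokernel.π i) (cokernel.condition i)).ShortExact :=
    { exact := ShortComplex.exact_of_g_is_cokernel _ (cokernelIsCokernel i) }
  obtain ⟨y, hy⟩ := Ext.covariant_sequence_exact₁ Q hJ x (Ext.eq_zero_of_injective _) rfl
  obtain ⟨f, rfl⟩ := (Ext.mk₀_bijective _ _).2 y
  have z0 : (0 : A ⟶ Q) ≫ f = i ≫ cokernel.π i := by rw [zero_comp, cokernel.condition]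
  let a : A ⟶ pullback f (cokernel.π i) := pullback.lift 0 i z0
  have za : a ≫ pullback.fst f (cokernel.π i) = 0 := pullback.lift_fst _ _ _
  have hs : a ≫ pullback.snd f (cokernel.π i) = i := pullback.lift_snd _ _ _
  haveI : Mono a := mono_of_mono_fac hs
  have h : (ShortComplex.mk a (pullback.fst f (cokernel.π i)) za).ShortExact :=
    { exact := by
        refine ShortComplex.exact_of_f_is_kernel _ (KernelFork.IsLimit.ofι' a za fun {W} φ hφ => ?_)
        have h1 : (φ ≫ pullback.snd f (cokernel.π i)) ≫ cokernel.π i = 0 := by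
          rw [Category.assoc, ← pullback.condition, reassoc_of% hφ, zero_comp]
        refine ⟨hJ.exact.lift _ h1, ?_⟩
        refine pullback.hom_ext ?_ ?_
        · rw [Category.assoc, za, comp_zero, hφ]
        · rw [Category.assoc, hs]
          exact hJ.exact.lift_f _ h1
      epi_g := (inferInstance : Epi (pullback.fst f (cokernel.π i))) }
  refine ⟨_, a, _, za, h, ?_⟩
  let φ : ShortComplex.mk a (pullback.fst f (cokernel.π i)) za ⟶
      ShortComplex.mk i (cokernel.π i) (cokernel.condition i) :=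
    { τ₁ := 𝟙 A, τ₂ := pullback.snd f (cokernel.π i), τ₃ := f
      comm₁₂ := by simpa using hs.symm
      comm₂₃ := pullback.condition.symm }
  refine (Ext.comp_mk₀_id _).symm.trans ?_
  exact (ShortComplex.ShortExact.extClass_naturality h hJ φ).trans hy

omit [HasExt.{w} C] in
/-- The pullback of an extension along a map. -/
theorem shortExact_pullback {A B D E : C} {f : A ⟶ B} {g : B ⟶ D} {z : f ≫ g = 0}
    (h : (ShortComplex.mk f g z).ShortExact) (j : E ⟶ D) :
    ∃ w : pullback.lift f 0 (by rw [z, zero_comp]) ≫ pullback.snd g j = 0,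
      (ShortComplex.mk (pullback.lift f 0 (by rw [z, zero_comp])) (pullback.snd g j) w).ShortExact := by
  haveI := h.mono_f
  haveI : Epi g := h.epi_g
  have hz : f ≫ g = (0 : A ⟶ E) ≫ j := by rw [z, zero_comp]
  let a : A ⟶ pullback g j := pullback.lift f 0 hz
  have hf : a ≫ pullback.fst g j = f := pullback.lift_fst _ _ _
  have za : a ≫ pullback.snd g j = 0 := pullback.lift_snd _ _ _
  haveI : Mono a := mono_of_mono_fac hf
  refine ⟨za, ?_⟩
  exact
    { exact := by
        refine ShortComplex.exact_of_f_is_kernel _ (KernelFork.IsLimit.ofι' a za fun {W} φ hφ => ?_)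
        have h1 : (φ ≫ pullback.fst g j) ≫ g = 0 := by
          rw [Category.assoc, pullback.condition, reassoc_of% hφ, zero_comp]
        refine ⟨h.exact.lift _ h1, ?_⟩
        refine pullback.hom_ext ?_ ?_
        · rw [Category.assoc, hf]
          exact h.exact.lift_f _ h1
        · rw [Category.assoc, za, comp_zero, hφ]
      mono_f := ‹_›
      epi_g := (inferInstance : Epi (pullback.snd g j)) }

end General

variable (k : Type u) [Field k] [IsAlgClosed k] {X : Scheme.{u}} [X.Over (Spec (CommRingCat.of k))]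
  [IsProper (X ↘ Spec (CommRingCat.of k))] [IsIntegral X] [Smooth (X ↘ Spec (CommRingCat.of k))]

section TorsionFree

omit [IsProper (X ↘ Spec (CommRingCat.of k))] [IsIntegral X] [Smooth (X ↘ Spec (CommRingCat.of k))] [IsAlgClosed k]

omit [X.Over (Spec (CommRingCat.of k))] in
/-- An extension of torsion-free modules is torsion-free. -/
theorem isTorsionFree_mid {A B D : X.Modules} {f : A ⟶ B} {g : B ⟶ D} {z : f ≫ g = 0}
    (h : (ShortComplex.mk f g z).ShortExact) (hA : TorSh.IsTorsionFree A) (hD : TorSh.IsTorsionFree D) :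
    TorSh.IsTorsionFree B := fun x => by
  haveI iA : Module.IsTorsionFree (X.presheaf.stalk x) (A.presheaf.stalk x) := hA x
  haveI iD : Module.IsTorsionFree (X.presheaf.stalk x) (D.presheaf.stalk x) := hD x
  have hx := h.map_of_exact (DerSch.stalkFunctor X x)
  refine ⟨fun r hr v w hvw => ?_⟩
  have h1 : r • (v - w) = 0 := by
    rw [smul_sub, sub_eq_zero]; exact hvw
  have h2 : RefHull.stalkMapₗ g x (v - w) = 0 := by
    have h3 : r • RefHull.stalkMapₗ g x (v - w) = r • (0 : D.presheaf.stalk x) := by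
      rw [smul_zero, ← map_smul, h1, map_zero]
    exact iD.isSMulRegular hr h3
  obtain ⟨e, he⟩ := (ShortComplex.moduleCat_exact_iff _).1 hx.exact (v - w) h2
  have he' : RefHull.stalkMapₗ f x e = v - w := he
  have h4 : r • e = r • (0 : A.presheaf.stalk x) := by
    have hi : Function.Injective (RefHull.stalkMapₗ f x) := (ModuleCat.mono_iff_injective _).1 hx.mono_f
    refine hi ?_
    rw [smul_zero, map_zero, map_smul, he', h1]
  rw [iA.isSMulRegular hr h4, map_zero] at he'
  exact (sub_eq_zero.1 he'.symm)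

omit [X.Over (Spec (CommRingCat.of k))] in
/-- A submodule of a torsion-free module is torsion-free. -/
theorem isTorsionFree_sub {A B : X.Modules} (f : A ⟶ B) [Mono f] (hB : TorSh.IsTorsionFree B) :
    TorSh.IsTorsionFree A := fun x => by
  haveI := hB x
  exact Function.Injective.moduleIsTorsionFree (RefHull.stalkMapₗ f x)
    (WeakAssLib.stalkHom_injective f x) fun r m => map_smul (RefHull.stalkMapₗ f x) r m

end TorsionFree

variable (hdim : topologicalKrullDim X = 2)

include k hdim

/-- A monomorphism from a vector bundle to a torsion-free module that is bijective off a finite set is an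
isomorphism. -/
theorem isIso_of_off_finite {V W : X.Modules} (u : V ⟶ W) [Mono u] (hV : FlatMod.IsFinLocFree V)
    (hW : Coh.IsCoh W) (hWtf : TorSh.IsTorsionFree W)
    (hB : topologicalKrullDim (CohB1.support (cokernel u)) ≤ 0) : IsIso u := by
  haveI := CurveRR.isNoetherian_of_proper k X
  have hVc : Coh.IsCoh V := ⟨LocFree.isQCoh_of_isFinLocFree hV, LocFree.isFT_of_isFinLocFree hV⟩
  let B : Set X := CohB1.support (cokernel u)
  have hBc : IsClosed B := QC.isClosed_support (QC.isCoh_cokernel hVc.1 hW u).2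
  have hcl : ∀ x ∈ B, IsClosed ({x} : Set X) := fun x hx =>
    SuppZero.isClosed_of_subset hBc (hB.trans_eq (by norm_cast)) _ (Set.singleton_subset_iff.2 hx)
  have hη : genericPoint X ∉ B := fun hη => by
    have h2 := two_le_dim_of_closed k hdim (hcl _ hη)
    rw [ringKrullDim_stalk_eq_coheight, RefDiv.coheight_genericPoint] at h2
    norm_num at h2
  have hbij : ∀ x ∉ B, Function.Bijective (RefHull.stalkMapₗ u x) := fun x hx =>
    StabLib.bijective_stalk_of_notMem u hx
  have hVr : ∀ x : X, Module.IsReflexive (X.presheaf.stalk x) (V.presheaf.stalk x) := fun x => by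
    haveI := LocFree.free_stalk_of_isFinLocFree hV x
    haveI := RegDual.finite_stalk hVc x
    infer_instance
  have hsur : ∀ U : X.Opens, Function.Surjective (u.app U) := by
    intro U s
    by_cases hU : genericPoint X ∈ U
    · let O : X.Opens := U ⊓ ⟨Bᶜ, hBc.isOpen_compl⟩
      obtain ⟨t₀, ht₀⟩ := (RefStalk.bijective_app_of_stalk u (V := O) fun x hx => hbij x hx.2).2
        (W.presheaf.map (homOfLE (inf_le_left : O ≤ U)).op s)
      obtain ⟨t, ht⟩ := (RefStalk.bijective_res_of_isReflexive (normal k hdim) hVc hVr (inf_le_left : O ≤ U)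
        fun x hx hx' => two_le_dim_of_closed k hdim (hcl x (not_not.1 fun h => hx' ⟨hx, h⟩))).2 t₀
      refine ⟨t, ZCl.ext_germ W _ _ fun x hx => ?_⟩
      haveI := hWtf x
      refine RefStalk.msp_injective hW.1 x ?_
      refine (RefStalk.msp_germ W _ hx _).trans (Eq.trans ?_ (RefStalk.msp_germ W _ hx _).symm)
      have h5 : W.presheaf.map (homOfLE (inf_le_left : O ≤ U)).op (u.app U t) =
          W.presheaf.map (homOfLE (inf_le_left : O ≤ U)).op s := by
        rw [← ht₀, ← ht]
        exact (ZCl.app_rs u (inf_le_left : O ≤ U) t).symm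
      rw [← mgerm_res W (inf_le_left : O ≤ U) ⟨hU, hη⟩, ← mgerm_res W (inf_le_left : O ≤ U) ⟨hU, hη⟩]
      exact congrArg _ h5
    · refine ⟨0, ZCl.ext_germ W _ _ fun x hx => absurd ((RefStalk.toGen x).mem_open U.2 hx) hU⟩
  exact ZCl.isIso_of_bijective u fun U => ⟨QC.app_injective_of_mono u U, hsur U⟩

variable {L : X.Modules} (hL : CohB1.IsAmple L) [PicGrp.Law X]
  (hgen : ∀ c : PicLoc.PicSet X, ∃ n : ℤ, c = PicGrp.cls L hL.1 ^ n)
  (hK : Canon.IsTopDiff (X ↘ Spec (CommRingCat.of k)) 2 (Coh.structureModule X))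
  (hq : Module.finrank k (Coh.HH X (Coh.structureModule X) 1) = 0)

omit hdim in
/-- A nonzero coherent module with finite support contains one with exactly one section. -/
theorem exists_sub_h0_one {Q : X.Modules} (hQ : Coh.IsCoh Q) (hQ0 : ¬ IsZero Q)
    (hd : topologicalKrullDim (CohB1.support Q) ≤ 0) :
    ∃ (R : X.Modules) (j : R ⟶ Q), Mono j ∧ Coh.IsCoh R ∧ CurveRR.h k R 0 = 1 := by
  classical
  haveI := CurveRR.isNoetherian_of_proper k X
  have hcl := QC.isClosed_support hQ.2
  have hpos : ∀ {R : X.Modules} (j : R ⟶ Q) [Mono j], Coh.IsCoh R → ¬ IsZero R → 0 < CurveRR.h k R 0 := by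
    intro R j _ hR h0
    refine Nat.pos_of_ne_zero fun hz => h0 ?_
    letI := CurveRR.secMod k R ⊤
    haveI : Module.Finite k (Coh.HH X R 0) := CohFinite.finite_proper k X _ hR 0
    haveI : Subsingleton (Coh.HH X R 0) := Module.finrank_zero_iff.1 hz
    exact CurveRR.isZero_of_h0 (k := k) hcl hd (W7Exist.support_of_mono j)
      (CurveRR.secH0 (k := k) R).injective.subsingleton
  have hadd : ∀ {S : ShortComplex X.Modules}, S.ShortExact → Coh.IsCoh S.X₁ → Coh.IsCoh S.X₂ → Coh.IsCoh S.X₃ →
      CohB1.support S.X₂ ⊆ CohB1.support Q → CurveRR.h k S.X₂ 0 = CurveRR.h k S.X₁ 0 + CurveRR.h k S.X₃ 0 := by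
    intro S hS h₁ h₂ h₃ hs
    haveI := hS.mono_f
    haveI := hS.epi_g
    have he : ∀ {R : X.Modules}, CohB1.support R ⊆ CohB1.support Q → Curv2.euler k X R = CurveRR.h k R 0 := fun hR =>
      CurveRR.euler_eq_h0 fun i hi =>
        SuppZero.subsingleton_hh_of_supported hcl hd _ (fun x hx h => hx (hR h)) i hi
    have h := CurveRR.euler_add (k := k) hS h₁ h₂ h₃
    rw [he hs, he ((W7Exist.support_of_mono S.f).trans hs), he ((W7Exist.support_of_epi S.g).trans hs)] at h
    exact_mod_cast h
  have hex : ∃ n, ∃ (R : X.Modules) (j : R ⟶ Q), Mono j ∧ Coh.IsCoh R ∧ ¬ IsZero R ∧ CurveRR.h k R 0 = n :=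
    ⟨_, Q, 𝟙 Q, inferInstance, hQ, hQ0, rfl⟩
  obtain ⟨R, j, hj, hR, hR0, hn⟩ := Nat.find_spec hex
  haveI := hj
  refine ⟨R, j, hj, hR, le_antisymm ?_ (hpos j hR hR0)⟩
  obtain ⟨s, hs⟩ := Nakai.exists_section_of_h0 (k := k) (hpos j hR hR0)
  have hO : Coh.IsCoh (Coh.structureModule X) := RefStalk.isCoh_structureModule
  haveI hse : Epi s := by
    have hI : Coh.IsCoh (Abelian.image s) := QC.isCoh_kernel hR (QC.isCoh_cokernel hO.1 hR s).1 _
    have hI0 : ¬ IsZero (Abelian.image s) := fun hz => hs (by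
      rw [← Abelian.image.fac s, hz.eq_of_tgt (Abelian.factorThruImage s) 0, zero_comp])
    have hmin : Nat.find hex ≤ CurveRR.h k (Abelian.image s) 0 :=
      Nat.find_le ⟨_, Abelian.image.ι s ≫ j, mono_comp _ _, hI, hI0, rfl⟩
    have hC : Coh.IsCoh (cokernel s) := QC.isCoh_cokernel hO.1 hR s
    have h := hadd (S := ShortComplex.mk (Abelian.image.ι s) (cokernel.π s) (kernel.condition _))
      { exact := ShortComplex.exact_of_f_is_kernel _ (kernelIsKernel _) } hI hR hC (W7Exist.support_of_mono j)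
    change CurveRR.h k R 0 = CurveRR.h k (Abelian.image s) 0 + CurveRR.h k (cokernel s) 0 at h
    haveI : Module.Finite k (Coh.HH X (cokernel s) 0) := CohFinite.finite_proper k X _ hC 0
    haveI : Subsingleton (Coh.HH X (cokernel s) 0) := Module.finrank_zero_iff.1 (by omega : CurveRR.h k (cokernel s) 0 = 0)
    letI := CurveRR.secMod k (cokernel s) ⊤
    have hz : IsZero (cokernel s) := CurveRR.isZero_of_h0 (k := k) hcl hd
      ((W7Exist.support_of_epi (cokernel.π s)).trans (W7Exist.support_of_mono j))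
      (CurveRR.secH0 (k := k) (cokernel s)).injective.subsingleton
    exact Abelian.epi_of_cokernel_π_eq_zero _ (hz.eq_of_tgt _ _)
  -- every endomorphism is zero or an isomorphism
  have hfac : ∀ t : Coh.structureModule X ⟶ R, ∃ φ : R ⟶ R, s ≫ φ = t := by
    intro t
    have hK0 : kernel.ι s ≫ t = 0 := by
      refine Scheme.Modules.hom_ext _ _ fun U => ?_
      ext κ
      show t.app U ((kernel.ι s).app U κ) = 0
      have hlin : ∀ (φ : Coh.structureModule X ⟶ R) (V : X.Opens) (a : Γ(Coh.structureModule X, V)),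
          φ.app V a = (show Γ(X, V) from a) • φ.app V (1 : Γ(X, V)) := fun φ V a =>
        (congrArg (φ.app V) (mul_one (show Γ(X, V) from a)).symm).trans (TMul.app_smul φ (show Γ(X, V) from a) _)
      refine QC.section_eq_of_locally fun x hx => ?_
      obtain ⟨v, hv⟩ := stalk_surjective s x (mgerm R hx (t.app U (1 : Γ(X, U))))
      obtain ⟨A, hA, b, rfl⟩ := TopCat.Presheaf.exists_germ_eq (Coh.structureModule X).presheaf v
      obtain ⟨W, hxW, i₁, i₂, he⟩ := TopCat.Presheaf.germ_eq R.presheaf x hA hx _ _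
        ((WeakAssLib.stalkHom_germ s hA b).symm.trans hv)
      refine ⟨W, leOfHom i₂, hxW, ?_⟩
      rw [map_zero, QC.app_res]
      have hκ : s.app W (QC.res (Coh.structureModule X) (leOfHom i₂) ((kernel.ι s).app U κ)) = 0 := by
        rw [← QC.app_res, show s.app U ((kernel.ι s).app U κ) = 0 from (QC.mem_range_kernel_app s U _).1 ⟨κ, rfl⟩, map_zero]
      generalize QC.res (Coh.structureModule X) (leOfHom i₂) ((kernel.ι s).app U κ) = a at hκ
      have ht1 : t.app W (1 : Γ(X, W)) = s.app W (QC.res (Coh.structureModule X) (leOfHom i₁) b) := by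
        rw [← QC.app_res]
        refine Eq.trans ?_ he.symm
        rw [show (1 : Γ(X, W)) = QC.resO X (leOfHom i₂) (1 : Γ(X, U)) from (map_one _).symm]
        exact (QC.app_res t (leOfHom i₂) (1 : Γ(X, U))).symm
      rw [hlin] at hκ
      rw [hlin, ht1, hlin s, smul_smul, mul_comm, ← smul_smul, hκ, smul_zero]
    haveI : Epi s := hse
    exact ⟨(Abelian.epiIsCokernelOfKernel _ (kernelIsKernel s)).desc (CokernelCofork.ofπ t hK0),
      (Abelian.epiIsCokernelOfKernel _ (kernelIsKernel s)).fac _ WalkingParallelPair.one⟩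
  have hiso : ∀ φ : R ⟶ R, φ ≠ 0 → IsIso φ := by
    intro φ hφ
    have hI : Coh.IsCoh (Abelian.image φ) := QC.isCoh_kernel hR (QC.isCoh_cokernel hR.1 hR φ).1 _
    have hI0 : ¬ IsZero (Abelian.image φ) := fun hz => hφ (by
      rw [← Abelian.image.fac φ, hz.eq_of_tgt (Abelian.factorThruImage φ) 0, zero_comp])
    have hmin : Nat.find hex ≤ CurveRR.h k (Abelian.image φ) 0 :=
      Nat.find_le ⟨_, Abelian.image.ι φ ≫ j, mono_comp _ _, hI, hI0, rfl⟩
    have hC : Coh.IsCoh (cokernel φ) := QC.isCoh_cokernel hR.1 hR φ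
    have hKc : Coh.IsCoh (kernel φ) := QC.isCoh_kernel hR hR.1 φ
    have h := hadd (S := ShortComplex.mk (Abelian.image.ι φ) (cokernel.π φ) (kernel.condition _))
      { exact := ShortComplex.exact_of_f_is_kernel _ (kernelIsKernel _) } hI hR hC (W7Exist.support_of_mono j)
    change CurveRR.h k R 0 = CurveRR.h k (Abelian.image φ) 0 + CurveRR.h k (cokernel φ) 0 at h
    have h' := hadd (S := ShortComplex.mk (kernel.ι φ) (Abelian.factorThruImage φ)
        ((cancel_mono (Abelian.image.ι φ)).1 (by rw [Category.assoc, Abelian.image.fac, kernel.condition, zero_comp])))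
      { exact := ShortComplex.exact_of_f_is_kernel _ (KernelFork.IsLimit.ofι' _ _ fun {W} ψ hψ =>
          ⟨kernel.lift φ ψ (by rw [← Abelian.image.fac φ, reassoc_of% hψ, zero_comp]), kernel.lift_ι _ _ _⟩) }
      hKc hR hI (W7Exist.support_of_mono j)
    change CurveRR.h k R 0 = CurveRR.h k (kernel φ) 0 + CurveRR.h k (Abelian.image φ) 0 at h'
    haveI : Module.Finite k (Coh.HH X (cokernel φ) 0) := CohFinite.finite_proper k X _ hC 0
    haveI : Module.Finite k (Coh.HH X (kernel φ) 0) := CohFinite.finite_proper k X _ hKc 0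
    haveI : Subsingleton (Coh.HH X (cokernel φ) 0) := Module.finrank_zero_iff.1 (by omega : CurveRR.h k (cokernel φ) 0 = 0)
    haveI : Subsingleton (Coh.HH X (kernel φ) 0) := Module.finrank_zero_iff.1 (by omega : CurveRR.h k (kernel φ) 0 = 0)
    letI := CurveRR.secMod k (cokernel φ) ⊤
    letI := CurveRR.secMod k (kernel φ) ⊤
    have hz : IsZero (cokernel φ) := CurveRR.isZero_of_h0 (k := k) hcl hd
      ((W7Exist.support_of_epi (cokernel.π φ)).trans (W7Exist.support_of_mono j))
      (CurveRR.secH0 (k := k) (cokernel φ)).injective.subsingleton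
    have hz' : IsZero (kernel φ) := CurveRR.isZero_of_h0 (k := k) hcl hd
      ((W7Exist.support_of_mono (kernel.ι φ)).trans (W7Exist.support_of_mono j))
      (CurveRR.secH0 (k := k) (kernel φ)).injective.subsingleton
    haveI : Epi φ := Abelian.epi_of_cokernel_π_eq_zero _ (hz.eq_of_tgt _ _)
    haveI : Mono φ := Preadditive.mono_of_kernel_zero (hz'.eq_of_src _ _)
    exact isIso_of_mono_of_epi φ
  by_contra hgt
  push Not at hgt
  letI := CurveRR.secMod k R ⊤
  haveI : Module.Finite k (Coh.HH X R 0) := CohFinite.finite_proper k X _ hR 0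
  rw [← CurveRR.finrank_sec] at hgt
  refine hgt.not_ge (finrank_le_one (TMul.val s ⊤) fun z => ?_)
  obtain ⟨φ, hφ⟩ := hfac (TMul.homOf z)
  obtain ⟨c, hc⟩ := StabLib.Endo.exists_not_isIso k hR hR0 φ
  refine ⟨c, ?_⟩
  have he : φ = StabLib.Endo.sc R (Coh.toGlobal (X ↘ Spec (CommRingCat.of k)) c) :=
    sub_eq_zero.1 (not_not.1 fun h => hc (hiso _ h))
  have h9 : TMul.val (TMul.homOf z) ⊤ = φ.app ⊤ (TMul.val s ⊤) := by rw [← hφ]; rfl
  rw [TMul.val_homOf, he] at h9
  rw [QC.res_self] at h9
  refine Eq.trans ?_ h9.symm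
  exact (StabLib.Endo.sc_app R _ ⊤ (TMul.val s ⊤)).symm

variable [HasExt.{u} X.Modules]

include hL hgen hK hq

/-- A two-dimensional space of extensions contains a non-split one with singular middle term. -/
theorem exists_nonsplit_not_finLocFree (A B : X.Modules) (hA : PicF.IsInvertible A) (hB : PicF.IsInvertible B)
    (N : X.Modules) (ι : N ⟶ B) [Mono ι] (hN : Coh.IsCoh N)
    (hZ : topologicalKrullDim (CohB1.support (cokernel ι)) ≤ 0)
    (h2 : 2 ≤ Module.finrank k (Ext N A 1)) :
    ∃ (V : X.Modules) (a : A ⟶ V) (b : V ⟶ N) (w : a ≫ b = 0),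
      (ShortComplex.mk a b w).ShortExact ∧ (∀ r : V ⟶ A, a ≫ r ≠ 𝟙 A) ∧
        ¬ FlatMod.IsFinLocFree V := by
  haveI := CurveRR.isNoetherian_of_proper k X
  haveI := SerrePn.enoughInjectives (X := X)
  obtain ⟨T, hTc, hT⟩ := ((PicGrp.cls A hA)⁻¹).2
  obtain ⟨θ⟩ : Nonempty (CohB1.tensorMod T A ≅ Coh.structureModule X) := by
    have h := congrArg Subtype.val (inv_mul_cancel (PicGrp.cls A hA))
    rw [PicGrp.mul_val, PicGrp.one_val, ← hTc, PicGrp.cls_val, PicGrp.mulCl_cl] at h
    exact (PicGrp.cl_eq_cl_iff _ _).1 h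
  have hTc' := CurveRR.isCoh_of_inv hT
  have hExt : ∀ {M : X.Modules}, Coh.IsCoh M → ∀ m ≤ 2,
      Module.finrank k (Ext M A m) = CurveRR.h k (CohB1.tensorMod M T) (2 - m) := fun hM m hm =>
    finrank_ext_line k hdim hK θ (RefDiv.isCoh_tensor hM hTc') m hm
  have hBc := CurveRR.isCoh_of_inv hB
  have hQ : Coh.IsCoh (cokernel ι) := QC.isCoh_cokernel hN.1 hBc ι
  have hQ0 : ¬ IsZero (cokernel ι) := fun hz => by
    haveI : Epi ι := Abelian.epi_of_cokernel_π_eq_zero _ (hz.eq_of_tgt _ _)
    haveI : IsIso ι := isIso_of_mono_of_epi ι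
    have hNi : PicF.IsInvertible N := ParaFLib.isInvertible_of_iso (asIso ι).symm hB
    rw [hExt hN 1 one_le_two, h1_line k hdim hL hgen hK hq (TMul.isInvertible_tensorMod hNi hT)] at h2
    omega
  obtain ⟨R, j, hj, hR, hR1⟩ := exists_sub_h0_one k hQ hQ0 hZ
  haveI := hj
  have hRs : CohB1.support R ⊆ CohB1.support (cokernel ι) := W7Exist.support_of_mono j
  have hR2 : Module.finrank k (Ext R A 2) = 1 := by
    rw [hExt hR 2 le_rfl, CurveRR.h_eq_of_iso (TMul.commIso R T) 0,
      (CurveRR.h0_tensor (k := k) hR (QC.isClosed_support hQ.2) hZ hRs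
        (CurveRR.isFinLocFreeOfRank_one hT)).1, hR1, one_mul]
  -- the enlargement `N'` of `N`
  have hπ : (ShortComplex.mk ι (cokernel.π ι) (cokernel.condition ι)).ShortExact :=
    { exact := ShortComplex.exact_cokernel ι }
  obtain ⟨wi, hi⟩ := shortExact_pullback hπ j
  let N' := pullback (cokernel.π ι) j
  have hN' : Coh.IsCoh N' := StabLib.Sh.isCoh_mid hi hN hR
  let δ : Ext N A 1 →ₗ[k] Ext R A 2 := hi.extClass.precompOfLinear k A (by rfl : 1 + 1 = 2)
  haveI : Module.Free k (Ext N A 1) := @Module.Free.of_divisionRing k (Ext N A 1) _ _ _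
  haveI : Module.Free k (Ext R A 2) := @Module.Free.of_divisionRing k (Ext R A 2) _ _ _
  haveI : Module.Finite k (Ext N A 1) := Module.finite_of_finrank_pos (by omega)
  haveI : Module.Finite k (Ext R A 2) := Module.finite_of_finrank_pos (by omega)
  obtain ⟨x, hx, hx0⟩ : ∃ x : Ext N A 1, δ x = 0 ∧ x ≠ 0 := by
    have h := δ.finrank_range_add_finrank_ker
    have h' := (LinearMap.range δ).finrank_le
    obtain ⟨x, hx, hx0⟩ := Submodule.exists_mem_ne_zero_of_ne_bot (p := LinearMap.ker δ) fun hb => by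
      rw [hb, finrank_bot] at h; omega
    exact ⟨x, hx, hx0⟩
  obtain ⟨y, hy⟩ := Ext.contravariant_sequence_exact₁ hi A x (by rfl : 1 + 1 = 2) hx
  obtain ⟨V', f, g, z, hV', rfl⟩ := exists_extension y
  have hz0 : ι ≫ cokernel.π ι = (0 : N ⟶ R) ≫ j := (cokernel.condition ι).trans zero_comp.symm
  let i : N ⟶ N' := pullback.lift ι 0 hz0
  obtain ⟨wV, hV⟩ := shortExact_pullback hV' i
  let u := pullback.fst g i
  refine ⟨_, _, _, wV, hV, fun r hr => hx0 ?_, fun hflf => ?_⟩
  · let φ : ShortComplex.mk _ _ wV ⟶ ShortComplex.mk f g z :=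
      { τ₁ := 𝟙 A, τ₂ := u, τ₃ := i
        comm₁₂ := by simp [u]
        comm₂₃ := pullback.condition }
    have hnat := ShortComplex.ShortExact.extClass_naturality hV hV' φ
    rw [← hy]
    refine hnat.symm.trans ?_
    show hV.extClass.comp (Ext.mk₀ (𝟙 A)) (add_zero 1) = 0
    rw [← hr, ← Ext.mk₀_comp_mk₀, ← Ext.comp_assoc_of_third_deg_zero, hV.extClass_comp, Ext.zero_comp]
  · have hAc := CurveRR.isCoh_of_inv hA
    have hVc' : Coh.IsCoh V' := StabLib.Sh.isCoh_mid hV' hAc hN'
    have htf : ∀ {J : X.Modules}, PicF.IsInvertible J → TorSh.IsTorsionFree J := fun hJ x => by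
      haveI := LocFree.free_stalk_of_isFinLocFree (ResDesc.isFinLocFree_of_isInvertible hJ) x
      infer_instance
    haveI : Mono (pullback.fst (cokernel.π ι) j) := inferInstance
    have hV'tf := isTorsionFree_mid hV' (htf hA) (isTorsionFree_sub (pullback.fst (cokernel.π ι) j) (htf hB))
    haveI : Mono i := hi.mono_f
    haveI : Epi g := hV'.epi_g
    let q : V' ⟶ cokernel i := g ≫ cokernel.π i
    have hq' : u ≫ q = 0 := by
      show u ≫ g ≫ cokernel.π i = 0
      rw [← Category.assoc, pullback.condition, Category.assoc, cokernel.condition i, comp_zero]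
    haveI : IsIso u := by
      refine isIso_of_off_finite k hdim u hflf hVc' hV'tf (le_trans (Intersect.dim_mono ?_) hZ)
      let c : cokernel i ≅ R := IsColimit.coconePointUniqueUpToIso (cokernelIsCokernel i) hi.gIsCokernel
      haveI : Epi (pullback.snd g i) := inferInstance
      let e : cokernel u ⟶ cokernel i := cokernel.map u i (pullback.snd g i) g pullback.condition
      haveI : Mono e := Abelian.mono_cokernel_map_of_isPullback (IsPullback.of_hasPullback g i)
      exact ((W7Exist.support_of_mono e).trans (W7Exist.support_of_mono c.hom)).trans hRs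
    haveI : Epi (g ≫ cokernel.π i) := epi_comp _ _
    have hq0 : q = 0 := (cancel_epi u).1 (by rw [hq', comp_zero])
    have hzi : IsZero (cokernel i) := (IsZero.iff_id_eq_zero _).2 ((cancel_epi q).1 (by rw [hq0, zero_comp, zero_comp]))
    have hR0 : IsZero R := hzi.of_iso (IsColimit.coconePointUniqueUpToIso (cokernelIsCokernel i) hi.gIsCokernel).symm
    obtain ⟨s, hs⟩ := Nakai.exists_section_of_h0 (k := k) (G := R) (by omega)
    exact hs (hR0.eq_of_tgt s 0)

end Groth.Agent.StabK3
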