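import Groth.Agent.StabK3.Mukai
import Groth.Agent.SerrePn.ClosedStatements
import Groth.Agent.ExtShX.DualTensor
import Groth.Agent.ConsFlat.Scheme
import Groth.Agent.LinSerMap.Main

/-!
Duals of vector bundles on a surface with trivial canonical module.
-/

set_option autoImplicit false
set_option backward.isDefEq.respectTransparency false
set_option backward.isDefEq.respectTransparency.types false
set_option linter.style.haveILetI false
set_option linter.unusedSectionVars false

universe u

open CategoryTheory CategoryTheory.Limits AlgebraicGeometry TopologicalSpace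
open Groth.Agent.Intersect Groth.Agent.StabLib

noncomputable section

namespace Groth.Agent.StabK3

section Surface

variable (k : Type u) [Field k] [IsAlgClosed k] {X : Scheme.{u}}
  [X.Over (Spec (CommRingCat.of k))]
  [IsProper (X ↘ Spec (CommRingCat.of k))] [IsIntegral X] [Smooth (X ↘ Spec (CommRingCat.of k))]
  (hdim : topologicalKrullDim X = 2)
  (hK : Canon.IsTopDiff (X ↘ Spec (CommRingCat.of k)) 2 (Coh.structureModule X))

include hdim hK

/-- Serre duality with trivial canonical module. -/
theorem h_dual {F : X.Modules} (hF : FlatMod.IsFinLocFree F) (i : ℕ) (hi : i ≤ 2) :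
    CurveRR.h k F i = CurveRR.h k (RefHull.dual F) (2 - i) := by
  haveI := CurveRR.isNoetherian_of_proper k X
  haveI := SurfAdj.smooth2 k hdim (X := X)
  obtain ⟨N, ι, hι₁, hι⟩ := SurfAdj.exists_emb k hdim (X := X)
  haveI := hι₁
  obtain ⟨t, ht⟩ := ExtFund.exists_trace_smooth ι hι (Coh.structureModule X) hK
  obtain ⟨g⟩ := SerrePn.duality_vb ι hι
    (fun x hx => ExtFund.cm_dim_of_smooth (X ↘ Spec (CommRingCat.of k)) 2 x hx)
    (Coh.structureModule X) RefStalk.isCoh_structureModule t ht F hF i hi
  have e : (DCoh.sheafHom F).obj (Coh.structureModule X) ≅ RefHull.dual F :=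
    (W7Hull.sheafHomIso F).app (Coh.structureModule X)
  rw [← CurveRR.h_eq_of_iso e (2 - i)]
  exact Subspace.dual_finrank_eq.symm.trans g.finrank_eq

/-- A vector bundle and its dual have the same Euler characteristic. -/
theorem euler_dual {F : X.Modules} (hF : FlatMod.IsFinLocFree F) :
    Curv2.euler k X (RefHull.dual F) = Curv2.euler k X F := by
  rw [SurfAdj.euler_eq3 k hdim, SurfAdj.euler_eq3 k hdim, h_dual k hdim hK hF 0 (by norm_num),
    h_dual k hdim hK hF 1 (by norm_num), h_dual k hdim hK hF 2 le_rfl]
  norm_num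
  ring

/-- The Euler characteristic of the structure module of a K3 surface. -/
theorem euler_structure (hq : Module.finrank k (Coh.HH X (Coh.structureModule X) 1) = 0) :
    Curv2.euler k X (Coh.structureModule X) = 2 := by
  have h2 := SurfAdj.h_eq_dual k hdim hK (TMul.isInvertible_structureModule (X := X))
    (L' := Coh.structureModule X) ⟨TMul.leftUnitIso _⟩ 2 le_rfl
  rw [CurveRR.h_eq_of_iso (TMul.leftUnitIso (Coh.structureModule X)) 0, ConnDiv.h0_structure] at h2
  rw [SurfAdj.euler_eq3 k hdim, h2, ConnDiv.h0_structure,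
    show CurveRR.h k (Coh.structureModule X) 1 = 0 from hq]
  norm_num

end Surface

section Rank

variable {X : Scheme.{u}}

/-- The stalk ranks of a locally free module on an irreducible scheme are constant. -/
theorem isFinLocFreeOfRank_of_generic [IsIntegral X] {F : X.Modules} (hF : FlatMod.IsFinLocFree F) (n : ℕ)
    (hn : Module.finrank (X.presheaf.stalk (genericPoint X)) (F.presheaf.stalk (genericPoint X)) = n) :
    FlatMod.IsFinLocFreeOfRank n F := fun x => by
  obtain ⟨U, m, hx, ⟨i⟩⟩ := hF x
  have hη : genericPoint X ∈ U := (genericPoint_specializes x).mem_open U.2 hx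
  obtain rfl : m = n := (ConsFlat.finrank_stalk i (LocFree.isQCoh_of_isFinLocFree hF) hη).symm.trans hn
  exact ⟨U, hx, ⟨i⟩⟩

/-- The dual has the same rank. -/
theorem isFinLocFreeOfRank_dual [IsIntegral X] [IsLocallyNoetherian X] {F : X.Modules} {n : ℕ}
    (hF : FlatMod.IsFinLocFreeOfRank n F) : FlatMod.IsFinLocFreeOfRank n (RefHull.dual F) := by
  have hl := Nagata.isFinLocFree_of_rank' hF
  have hc := K0Coh.isCoh_of_isFinLocFree hl
  refine isFinLocFreeOfRank_of_generic (ResDesc.isFinLocFree_dual hl) n ?_
  let η := genericPoint X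
  haveI := LocFree.free_stalk_of_isFinLocFree hl η
  haveI := RegDual.finite_stalk hc η
  haveI := LocFree.free_stalk_of_isFinLocFree
    (ResDesc.isFinLocFree_of_isInvertible (TMul.isInvertible_structureModule (X := X))) η
  haveI := RegDual.finite_stalk (RefStalk.isCoh_structureModule (X := X)) η
  have hb := RefStalk.bijective_evalStalk_of_isCoh (G := Coh.structureModule X) hc η
  refine ((LinearEquiv.ofBijective _ hb).finrank_eq).trans ?_
  show Module.finrank (X.presheaf.stalk η) (F.presheaf.stalk η →ₗ[X.presheaf.stalk η]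
    (Coh.structureModule X).presheaf.stalk η) = n
  rw [Module.finrank_linearMap, CurveRR.finrank_stalk_inv TMul.isInvertible_structureModule, mul_one]
  exact ((ConsFlat.isFinLocFreeOfRank_iff hc.1 n).1 hF).2 η

end Rank

section Mukai

variable (k : Type u) [Field k] [IsAlgClosed k] [CharZero k] {X : Scheme.{u}}
  [X.Over (Spec (CommRingCat.of k))]
  [IsProper (X ↘ Spec (CommRingCat.of k))] [IsIntegral X] [Smooth (X ↘ Spec (CommRingCat.of k))]
  (hdim : topologicalKrullDim X = 2)
  {C : Scheme.{u}} [IsIntegral C] (i : C ⟶ X) [IsClosedImmersion i] (hC : topologicalKrullDim C = 1)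
  {A : C.Modules} (hA : PicF.IsInvertible A) {e : ℕ}
  (lam : FlatMod.freeMod X e ⟶ (Coh.push i).obj A) [Epi lam]

include k hdim hC hA

/-- The rank of a Lazarsfeld–Mukai bundle. -/
theorem isFinLocFreeOfRank_lm : FlatMod.IsFinLocFreeOfRank e (kernel lam) := by
  haveI := CurveRR.isNoetherian_of_proper k X
  refine isFinLocFreeOfRank_of_generic (isFinLocFree_kernel k hdim i hC hA lam) e ?_
  let η := genericPoint X
  have hη : η ∉ Set.range i := fun h => by
    have hr : Set.range i = Set.univ :=
      Set.eq_univ_of_univ_subset ((genericPoint_spec X).symm ▸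
        closure_minimal (Set.singleton_subset_iff.2 h) i.isClosedEmbedding.isClosed_range)
    have h2 := (i.isClosedEmbedding.isEmbedding.toHomeomorph.isHomeomorph.topologicalKrullDim_eq).symm
    rw [hC, hr, (Homeomorph.Set.univ X).isHomeomorph.topologicalKrullDim_eq, hdim] at h2
    norm_cast at h2
  haveI : Subsingleton (((Coh.push i).obj A).presheaf.stalk η) :=
    not_not.1 fun hc => hη (CurveRR.support_push i A hc)
  have hs : Function.Surjective (WeakAssLib.stalkHom (kernel.ι lam) η) := fun v =>
    WeakAssLib.stalk_exact _ (CurveRR.shortExact_ker lam) η v (Subsingleton.elim _ _)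
  have hb : Function.Bijective (RefHull.stalkMapₗ (kernel.ι lam) η) :=
    ⟨WeakAssLib.stalkHom_injective (kernel.ι lam) η, hs⟩
  refine ((LinearEquiv.ofBijective _ hb).finrank_eq).trans ?_
  exact ((ConsFlat.isFinLocFreeOfRank_iff (NegFilt.isCoh_freeMod (X := X) e).1 e).1
    (LinSerMap.isFinLocFreeOfRank_freeMod X e)).2 η

end Mukai

end Groth.Agent.StabK3
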