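import Groth.Agent.StabK3.Euler

/-!
Cohomology of a Lazarsfeld–Mukai bundle and of its endomorphisms.
-/

set_option autoImplicit false
set_option backward.isDefEq.respectTransparency false
set_option backward.isDefEq.respectTransparency.types false
set_option linter.style.haveILetI false
set_option linter.unusedSectionVars false

universe u

open CategoryTheory CategoryTheory.Limits AlgebraicGeometry TopologicalSpace
open Groth.Agent.Intersect Groth.Agent.StabLib
open Groth.Agent.CohFinite (hhMap hhδ)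

noncomputable section

namespace Groth.Agent.StabK3

section Seq

variable (k : Type u) [Field k] {X : Scheme.{u}} [X.Over (Spec (CommRingCat.of k))]
  [IsProper (X ↘ Spec (CommRingCat.of k))] {S : ShortComplex X.Modules} (hS : S.ShortExact)

include hS

/-- A connecting map between vanishing neighbours is bijective. -/
theorem h_shift (h₁ : Coh.IsCoh S.X₁) (h₂ : Coh.IsCoh S.X₂) (h₃ : Coh.IsCoh S.X₃) (i : ℕ)
    (ha : CurveRR.h k S.X₂ i = 0) (hb : CurveRR.h k S.X₂ (i + 1) = 0) :
    CurveRR.h k S.X₃ i = CurveRR.h k S.X₁ (i + 1) := by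
  haveI := CohFinite.finite_proper k X _ h₂ i
  haveI := CohFinite.finite_proper k X _ h₂ (i + 1)
  haveI := CohFinite.finite_proper k X _ h₃ i
  haveI := CohFinite.finite_proper k X _ h₁ (i + 1)
  haveI : Subsingleton (Coh.HH X S.X₂ i) := Module.finrank_zero_iff.1 ha
  haveI : Subsingleton (Coh.HH X S.X₂ (i + 1)) := Module.finrank_zero_iff.1 hb
  have h1 : LinearMap.ker (hhδ k hS i) = ⊥ := by
    rw [← CurveRR.range_g_eq_ker_δ hS i, LinearMap.range_eq_bot]
    exact LinearMap.ext fun x => by rw [Subsingleton.elim x 0, map_zero, map_zero]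
  have h2 : LinearMap.range (hhδ k hS i) = ⊤ := by
    rw [CurveRR.range_δ_eq_ker_f hS i, LinearMap.ker_eq_top]
    exact LinearMap.ext fun x => Subsingleton.elim _ _
  exact (LinearEquiv.ofBijective _ ⟨LinearMap.ker_eq_bot.1 h1, LinearMap.range_eq_top.1 h2⟩).finrank_eq

/-- The first cohomology of a kernel vanishes. -/
theorem h1_eq_zero (h₁ : Coh.IsCoh S.X₁) (h₂ : Coh.IsCoh S.X₂) (hb : CurveRR.h k S.X₂ 1 = 0)
    (hs : Function.Surjective (hhMap k S.g 0)) : CurveRR.h k S.X₁ 1 = 0 := by
  haveI := CohFinite.finite_proper k X _ h₂ 1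
  haveI : Subsingleton (Coh.HH X S.X₂ 1) := Module.finrank_zero_iff.1 hb
  have h1 : LinearMap.ker (hhδ k hS 0) = ⊤ := by
    rw [← CurveRR.range_g_eq_ker_δ hS 0]
    exact LinearMap.range_eq_top.2 hs
  have h2 : LinearMap.range (hhδ k hS 0) = ⊤ := by
    rw [CurveRR.range_δ_eq_ker_f hS 0, LinearMap.ker_eq_top]
    exact LinearMap.ext fun x => Subsingleton.elim _ _
  rw [LinearMap.ker_eq_top.1 h1, LinearMap.range_zero] at h2
  haveI : Subsingleton (Coh.HH X S.X₁ 1) := Submodule.subsingleton_iff k |>.1 (subsingleton_of_bot_eq_top h2)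
  exact Module.finrank_zero_of_subsingleton

/-- The sections of a kernel vanish. -/
theorem h0_eq_zero (hinj : Function.Injective (hhMap k S.g 0)) : CurveRR.h k S.X₁ 0 = 0 := by
  haveI : Subsingleton (Coh.HH X S.X₁ 0) := ⟨fun a b => by
    refine CurveRR.injective_f (k := k) hS (hinj ?_)
    have hm : ∀ x, hhMap k S.g 0 (hhMap k S.f 0 x) = 0 := fun x => by
      have hx : hhMap k S.f 0 x ∈ LinearMap.range (hhMap k S.f 0) := LinearMap.mem_range_self _ x
      rw [CurveRR.range_f_eq_ker_g hS 0] at hx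
      exact hx
    rw [hm, hm]⟩
  exact Module.finrank_zero_of_subsingleton

end Seq

section Main

variable (k : Type u) [Field k] [IsAlgClosed k] [CharZero k] {X : Scheme.{u}}
  [X.Over (Spec (CommRingCat.of k))]
  [IsProper (X ↘ Spec (CommRingCat.of k))] [IsIntegral X] [Smooth (X ↘ Spec (CommRingCat.of k))]
  (hdim : topologicalKrullDim X = 2)
  (hK : Canon.IsTopDiff (X ↘ Spec (CommRingCat.of k)) 2 (Coh.structureModule X))
  (hq : Module.finrank k (Coh.HH X (Coh.structureModule X) 1) = 0)
  {C : Scheme.{u}} [IsIntegral C] (i : C ⟶ X) [IsClosedImmersion i] (hC : topologicalKrullDim C = 1)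
  {A : C.Modules} (hA : PicF.IsInvertible A) {e : ℕ}
  (lam : FlatMod.freeMod X e ⟶ (Coh.push i).obj A) [Epi lam]
  (hlam : Function.Bijective (Sheaf.H.map ((SheafOfModules.toSheaf _).map lam) 0))

include hdim hK hq hC hA hlam

/-- The bundle has neither sections nor first cohomology. -/
theorem h_lm : CurveRR.h k (kernel lam) 0 = 0 ∧ CurveRR.h k (kernel lam) 1 = 0 := by
  haveI := CurveRR.isNoetherian_of_proper k X
  haveI : IsLocallyNoetherian C := LocallyOfFiniteType.isLocallyNoetherian i
  have hS := CurveRR.shortExact_ker lam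
  have hfree := NegFilt.isCoh_freeMod (X := X) e
  have hb : Function.Bijective (CohFinite.hhMap k lam 0) := hlam
  have hF := isCoh_lm k hdim i hC hA lam
  have g0 := h0_eq_zero k hS
  have g1 := h1_eq_zero k hS
  dsimp only at g0 g1
  refine ⟨g0 hb.injective, g1 hF hfree ?_ hb.surjective⟩
  rw [← CurveRR.h_eq_of_iso (SecTwist.unitorR (FlatMod.freeMod X e)) 1,
    h_free_tensor k RefStalk.isCoh_structureModule, show CurveRR.h k (Coh.structureModule X) 1 = 0 from hq,
    mul_zero]

/-- Top and bottom cohomology of the endomorphism sheaf agree. -/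
theorem h_endSheaf (j : ℕ) (hj : j ≤ 2) :
    CurveRR.h k (CohB1.tensorMod (kernel lam) (RefHull.dual (kernel lam))) j =
      CurveRR.h k (RefHull.homSh (kernel lam) (kernel lam)) (2 - j) := by
  haveI := CurveRR.isNoetherian_of_proper k X
  have hFl := isFinLocFree_kernel k hdim i hC hA lam
  have hDl := ResDesc.isFinLocFree_dual hFl
  obtain ⟨d⟩ := WeilFin.nonempty_dualTensor (A := kernel lam) hDl
  haveI := ExtShX.isIso_bidualMap hFl
  haveI := ExtShX.isIso_dualTensorTo hFl (kernel lam)
  rw [h_dual k hdim hK (ResDesc.isFinLocFree_tensorMod hFl hDl) j hj,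
    CurveRR.h_eq_of_iso (d ≪≫ PicGrp.tensorModIso (Iso.refl (RefHull.dual (kernel lam)))
      (asIso (RefHull.bidualMap (kernel lam))).symm ≪≫ asIso (ExtShX.dualTensorTo (kernel lam) (kernel lam))) (2 - j)]

/-- The step `h¹ = h⁰(End)`. -/
theorem h1_dual_tensor_push :
    CurveRR.h k (CohB1.tensorMod (RefHull.dual (kernel lam)) ((Coh.push i).obj A)) 1 =
      CurveRR.h k (RefHull.homSh (kernel lam) (kernel lam)) 0 := by
  haveI := CurveRR.isNoetherian_of_proper k X
  haveI : IsLocallyNoetherian C := LocallyOfFiniteType.isLocallyNoetherian i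
  have hFl := isFinLocFree_kernel k hdim i hC hA lam
  have hDl := ResDesc.isFinLocFree_dual hFl
  have hD := K0Coh.isCoh_of_isFinLocFree hDl
  obtain ⟨h0, h1⟩ := h_lm k hdim hK hq i hC hA lam hlam
  have hT := PnReg.shortExact_tensor hDl (CurveRR.shortExact_ker lam)
  have h := h_shift k hT (CurveRR.isCoh_tensor' (isCoh_lm k hdim i hC hA lam) hD)
    (CurveRR.isCoh_tensor' (NegFilt.isCoh_freeMod e) hD)
    (CurveRR.isCoh_tensor' (SerrePn.isCoh_push i (CurveRR.isCoh_of_inv hA)) hD) 1
    (by
      show CurveRR.h k (CohB1.tensorMod (FlatMod.freeMod X e) (RefHull.dual (kernel lam))) 1 = 0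
      have hd := h_dual k hdim hK hFl 1 (by norm_num)
      rw [h1] at hd
      rw [h_free_tensor k hD, ← hd, mul_zero])
    (by
      show CurveRR.h k (CohB1.tensorMod (FlatMod.freeMod X e) (RefHull.dual (kernel lam))) 2 = 0
      have hd := h_dual k hdim hK hFl 0 (by norm_num)
      rw [h0] at hd
      rw [h_free_tensor k hD, ← hd, mul_zero])
  change CurveRR.h k (CohB1.tensorMod ((Coh.push i).obj A) (RefHull.dual (kernel lam))) 1 =
    CurveRR.h k (CohB1.tensorMod (kernel lam) (RefHull.dual (kernel lam))) 2 at h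
  rw [CurveRR.h_eq_of_iso (TMul.commIso (RefHull.dual (kernel lam)) _) 1, h,
    h_endSheaf k hdim hK hq i hC hA lam hlam 2 le_rfl]

end Main

end Groth.Agent.StabK3
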