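import Groth.Agent.StabK3.RankTwoUlrich
import Groth.Agent.StabK3.Cohom
import Groth.Agent.ConnDiv.Basic
import Groth.Agent.SurfAdj.Nef
import Groth.Agent.DualGeneric.NegDeg

/-!
Vanishing of the first cohomology of invertible modules on a K3 surface of Picard rank one.
-/

set_option autoImplicit false
set_option linter.unusedSectionVars false
set_option linter.style.haveILetI false
set_option linter.style.longLine false
set_option backward.isDefEq.respectTransparency false
set_option backward.isDefEq.respectTransparency.types false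

universe u

open CategoryTheory CategoryTheory.Limits AlgebraicGeometry TopologicalSpace Polynomial

noncomputable section

namespace Groth.Agent.StabK3

variable (k : Type u) [Field k] [IsAlgClosed k] {X : Scheme.{u}} [X.Over (Spec (CommRingCat.of k))]
  [IsProper (X ↘ Spec (CommRingCat.of k))] [IsIntegral X] [Smooth (X ↘ Spec (CommRingCat.of k))]
  (hdim : topologicalKrullDim X = 2) {L : X.Modules} (hL : CohB1.IsAmple L) [PicGrp.Law X]
  (hgen : ∀ c : PicLoc.PicSet X, ∃ n : ℤ, c = PicGrp.cls L hL.1 ^ n)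

include k hdim hL

theorem selfInt_pos : 0 < FGA.intNum k X 2 ![L, L] (Coh.structureModule X) := by
  haveI := CurveRR.isNoetherian_of_proper k X
  have h := Intersect.alt_pos k 2 ![L, L] (fun j => by fin_cases j <;> exact hL) (Coh.structureModule X)
    RefStalk.isCoh_structureModule (by rw [Intersect.dim_support_structure, hdim]; norm_cast)
  rw [← Intersect.intNum_eq_alt k 2 (dim_le k hdim)] at h
  norm_num at h
  exact h

include hgen

variable (hK : Canon.IsTopDiff (X ↘ Spec (CommRingCat.of k)) 2 (Coh.structureModule X))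
  (hq : Module.finrank k (Coh.HH X (Coh.structureModule X) 1) = 0)

include hK hq

/-- The generator has a nonzero section. -/
theorem exists_section_gen : ∃ s : Coh.structureModule X ⟶ L, s ≠ 0 := by
  haveI := CurveRR.isNoetherian_of_proper k X
  have hLc := CurveRR.isCoh_of_inv hL.1
  have hO : Coh.IsCoh (Coh.structureModule X) := RefStalk.isCoh_structureModule
  have h0 := δ_structure_eq_zero k hdim hK hL
  have hμ := μ_pos k hdim hL
  refine exists_hom k hdim hK hLc (fun φ => by_contra fun hφ => ?_) ?_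
  · haveI := mono_line k hdim hL hgen hL.1 TMul.isInvertible_structureModule φ hφ
    have hL0 : ¬ IsZero L := fun hz => hφ (hz.eq_of_src φ 0)
    obtain ⟨-, hd, hδ⟩ := sub_line k hdim hL hgen hLc TMul.isInvertible_structureModule hL0 φ
    have hge := (torsion k hdim hL hgen (QC.isCoh_cokernel hLc.1 hO φ) hd).1
    rw [δ_polarisation k hdim hL hgen, h0] at hδ
    linarith
  · have e0 := StabLib.Sh.isHilbPoly_hp k hL.1 hO 0
    have e1 := StabLib.Sh.isHilbPoly_hp k hL.1 hO 1
    rw [ShStab.twist, CurveRR.euler_eq_of_iso (TMul.leftUnitIso (CohB1.tensorPow L 0))] at e0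
    rw [ShStab.twist, CurveRR.euler_eq_of_iso (TMul.leftUnitIso (CohB1.tensorPow L 1) ≪≫ TMul.leftUnitIso L)] at e1
    change (Curv2.euler k X (Coh.structureModule X) : ℚ) = _ at e0
    rw [euler_structure k hdim hK hq] at e0
    rw [Polynomial.eval_eq_sum_range' (n := 3) (Nat.lt_succ_of_le (natDegree_hp k hdim hL hO))] at e0 e1
    simp [Finset.sum_range_succ] at e0 e1
    rw [δ] at h0
    rw [μ] at hμ
    have : (1 : ℚ) ≤ (Curv2.euler k X L : ℚ) := by linarith
    exact_mod_cast this

/-- An integral curve in the linear system of the generator. -/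
theorem exists_curve_gen : ∃ (C : X.IdealSheafData) (_ : IsIntegral C.subscheme)
    (_ : topologicalKrullDim (C.support : Set X) = 1) (hC : PicF.IsInvertible (ClSub.idealMod C)),
    PicGrp.cls (ClSub.idealMod C) hC = (PicGrp.cls L hL.1)⁻¹ := by
  haveI := CurveRR.isNoetherian_of_proper k X
  obtain ⟨s, hs⟩ := exists_section_gen k hdim hL hgen hK hq
  haveI : Mono s := CurveRR.mono_of_ne_zero TMul.isInvertible_structureModule hL.1 s hs
  have hLc := CurveRR.isCoh_of_inv hL.1
  have hμ := μ_pos k hdim hL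
  have h0 := δ_structure_eq_zero k hdim hK hL
  have hη : genericPoint X ∈ CohB1.genLocus L s := by
    by_contra h
    exact CurveRR.notMem_support_coker s _ (CurveRR.surjective_stalk_generic hL.1 s hs)
      ((Intersect.support_coker_section hL.1 s).symm ▸ h)
  obtain ⟨D, hD, hDs, ⟨e⟩⟩ := NegTwist.exists_cartier_of_section_support hL.1 s
    fun y hy => SurfAdj.eq_genericPoint_of_isAssPoint hy ▸ hη
  have hDi := (Groth.Agent.S8914.result D).2 hD
  have hDcls : PicGrp.cls (ClSub.idealMod D) hDi = PicGrp.cls L hL.1 ^ (-1 : ℤ) := by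
    have h1 : PicGrp.cls (ClSub.idealMod D) hDi * PicGrp.cls L hL.1 = 1 := by
      refine Subtype.ext ((PicGrp.cls_mul_cls_val hDi hL.1).trans ?_)
      exact ((PicGrp.cl_eq_cl_iff _ _).2 ⟨e⟩).trans PicGrp.one_val.symm
    rw [zpow_neg_one, eq_inv_of_mul_eq_one_left h1]
  rcases Intersect.coker_section_cases k hdim hL.1 s with hiso | hd1
  · exfalso
    haveI := hiso
    have h1 : PicGrp.cls L hL.1 = PicGrp.cls L hL.1 ^ (0 : ℤ) := by
      rw [zpow_zero]
      exact Subtype.ext (((PicGrp.cl_eq_cl_iff _ _).2 ⟨(asIso s).symm⟩).trans PicGrp.one_val.symm)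
    have h2 := (line k hdim hL hL.1 0 h1).2
    rw [δ_polarisation k hdim hL hgen, h0] at h2
    simp at h2
    linarith
  rw [Intersect.support_coker_section hL.1 s, ← hDs] at hd1
  obtain ⟨y, hy, hync⟩ : ∃ y ∈ (D.support : Set X), ¬ IsClosed ({y} : Set X) := by
    by_contra hcon
    push Not at hcon
    have := Intersect.dim_le_zero_of_closedPoints D.support.isClosed hcon
    rw [hd1] at this
    norm_cast at this
  let C := Scheme.IdealSheafData.vanishingIdeal (⟨closure ({y} : Set X), isClosed_closure⟩ : Closeds X)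
  haveI : IsIntegral C.subscheme := Devissage.Zi_isIntegral y
  have hC1 : topologicalKrullDim (C.support : Set X) = 1 := by
    rw [Scheme.IdealSheafData.coe_support_vanishingIdeal]
    have hle : topologicalKrullDim (closure ({y} : Set X)) ≤ ((1 : ℕ) : WithBot ℕ∞) :=
      (Intersect.dim_closure_le D.support.isClosed hy).trans_eq hd1
    refine le_antisymm (hle.trans_eq (by norm_cast)) (not_lt.1 fun hlt => hync ?_)
    have h0' : topologicalKrullDim (closure ({y} : Set X)) ≤ ((0 : ℕ) : WithBot ℕ∞) := by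
      rcases hcase : topologicalKrullDim (closure ({y} : Set X)) with _ | a
      · exact bot_le
      · replace hlt : topologicalKrullDim (closure ({y} : Set X)) < ((1 : ℕ∞) : WithBot ℕ∞) := hlt
        rw [hcase] at hlt
        have : a < 1 := WithBot.coe_lt_coe.1 hlt
        rw [ENat.lt_one_iff_eq_zero] at this
        rw [this]
        exact le_rfl
    exact SuppZero.isClosed_of_subset isClosed_closure h0' _
      (Set.singleton_subset_iff.2 (subset_closure (Set.mem_singleton y)))
  have hCi := SurfAdj.inv_ideal k hdim C hC1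
  refine ⟨C, inferInstance, hC1, hCi, ?_⟩
  have hle : D ≤ C := Scheme.IdealSheafData.le_support_iff_le_vanishingIdeal.1
    (show closure ({y} : Set X) ⊆ (D.support : Set X) from
      closure_minimal (Set.singleton_subset_iff.2 hy) D.support.isClosed)
  have hz : ClSub.idealModι D ≫ ClSub.toSubscheme C = 0 := by
    refine Scheme.Modules.hom_ext _ _ fun U => ?_
    ext a
    refine QC.section_eq_of_locally fun x hx => ?_
    obtain ⟨W, hW, hxW, hWU⟩ := exists_isAffineOpen_mem_and_subset hx
    refine ⟨W, hWU, hxW, ?_⟩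
    have h1 : (ClSub.idealModι D).app W (QC.res _ hWU a) ∈ C.ideal ⟨W, hW⟩ :=
      hle ⟨W, hW⟩ ((QC.mem_range_idealModι_affine D ⟨W, hW⟩ _).1 ⟨_, rfl⟩)
    obtain ⟨c, hc⟩ := (QC.mem_range_idealModι_affine C ⟨W, hW⟩ _).2 h1
    have h2 : (ClSub.toSubscheme C).app W ((ClSub.idealModι D).app W (QC.res _ hWU a)) = 0 :=
      (QC.mem_range_kernel_app (ClSub.toSubscheme C) W _).1 ⟨c, hc⟩
    refine (QC.app_res (ClSub.idealModι D ≫ ClSub.toSubscheme C) hWU a).trans (h2.trans ?_)
    exact (map_zero _).symm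
  let u : ClSub.idealMod D ⟶ ClSub.idealMod C := kernel.lift _ (ClSub.idealModι D) hz
  haveI : Mono u := mono_of_mono_fac (kernel.lift_ι _ (ClSub.idealModι D) hz)
  have hD0 : ¬ IsZero (ClSub.idealMod D) := fun hz' => by
    have h3 := (line k hdim hL hDi (-1) hDcls).1
    have h4 := (StabLib.Sh.inv k hL).hp_zero hz' (CurveRR.isCoh_of_inv hDi)
    change StabLib.Sh.hp k L _ = 0 at h4
    rw [h4, Polynomial.coeff_zero] at h3
    exact hμ.ne h3
  obtain ⟨-, hQd, hQδ⟩ := sub_line k hdim hL hgen (CurveRR.isCoh_of_inv hDi) hCi hD0 u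
  have hQ0 := (torsion k hdim hL hgen (QC.isCoh_cokernel (CurveRR.isCoh_of_inv hDi).1
    (CurveRR.isCoh_of_inv hCi) u) hQd).1
  obtain ⟨c, hc⟩ := hgen (PicGrp.cls _ hCi)
  rw [(line k hdim hL hDi (-1) hDcls).2, (line k hdim hL hCi c hc).2] at hQδ
  have hc1 : -1 ≤ c := by
    have : ((-1 : ℤ) : ℚ) * μ k L ≤ (c : ℚ) * μ k L := by linarith
    exact_mod_cast le_of_mul_le_mul_right this hμ
  have hc2 : c < 0 := by
    have hneg := SurfAdj.deg_ample_pos k hdim C hC1 hL
    rw [intNum_zpow k (dim_le k hdim) hL.1 _ hCi c hL.1 hc] at hneg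
    have := selfInt_pos k hdim hL
    by_contra h
    nlinarith
  rw [hc, show c = -1 by omega, zpow_neg_one]

/-- Negative powers of the generator have no first cohomology. -/
theorem h1_neg : ∀ (n : ℕ) {J : X.Modules} (hJ : PicF.IsInvertible J),
    PicGrp.cls J hJ = PicGrp.cls L hL.1 ^ (-((n : ℤ) + 1)) → CurveRR.h k J 1 = 0 := by
  haveI := CurveRR.isNoetherian_of_proper k X
  obtain ⟨C, hCint, hC1, hCi, hCcls⟩ := exists_curve_gen k hdim hL hgen hK hq
  haveI := hCint
  intro n
  induction n with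
  | zero =>
    intro J hJ hc
    rw [Nat.cast_zero, zero_add, zpow_neg_one, ← hCcls] at hc
    obtain ⟨e⟩ := (PicGrp.cls_eq_cls_iff hJ hCi).1 hc
    haveI := CohFinite.finite_proper k X _ (RefStalk.isCoh_structureModule (X := X)) 1
    have hH1 : Subsingleton (Coh.HH X (Coh.structureModule X) 1) := Module.finrank_zero_iff.1 hq
    haveI := ConnDiv.subsingleton_h1_ideal (k := k) hH1 C
    rw [CurveRR.h_eq_of_iso e 1]
    exact Module.finrank_zero_of_subsingleton
  | succ n ih =>
    intro J hJ hc
    let J' := CohB1.tensorMod J L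
    have hJ' : PicF.IsInvertible J' := TMul.isInvertible_tensorMod hJ hL.1
    have hc' : PicGrp.cls J' hJ' = PicGrp.cls L hL.1 ^ (-((n : ℤ) + 1)) := by
      rw [show PicGrp.cls J' hJ' = PicGrp.cls J hJ * PicGrp.cls L hL.1 from
        Subtype.ext (PicGrp.cls_mul_cls_val _ _).symm, hc, ← zpow_add_one]
      congr 1
    have hb := ih hJ' hc'
    let S := SerrePn.idealSeq C
    have hS := CohFinite.shortExact_tmap hJ' (SerrePn.idealSeq_shortExact C)
    have h₁ : Coh.IsCoh (CohB1.tensorMod (ClSub.idealMod C) J') :=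
      CurveRR.isCoh_tensor' (CurveRR.isCoh_idealMod C).1 (CurveRR.isCoh_of_inv hJ')
    have h₂ : Coh.IsCoh (CohB1.tensorMod (Coh.structureModule X) J') :=
      CurveRR.isCoh_tensor' RefStalk.isCoh_structureModule (CurveRR.isCoh_of_inv hJ')
    have hz : CurveRR.h k (CohB1.tensorMod (ClSub.quotMod C) J') 0 = 0 := by
      letI : C.subscheme.Over (Spec (CommRingCat.of k)) := ⟨C.subschemeι ≫ (X ↘ Spec (CommRingCat.of k))⟩
      haveI : IsProper (C.subscheme ↘ Spec (CommRingCat.of k)) :=
        inferInstanceAs (IsProper (C.subschemeι ≫ (X ↘ Spec (CommRingCat.of k))))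
      haveI : IsNoetherian C.subscheme := CurveRR.isNoetherian_of_proper k C.subscheme
      have hC' : topologicalKrullDim C.subscheme ≤ 1 := by
        rw [← dim_support_ker C.subschemeι, Scheme.IdealSheafData.ker_subschemeι]
        exact hC1.le
      have hl := ResDesc.isFinLocFree_of_isInvertible hJ'
      let e : CohB1.tensorMod (ClSub.quotMod C) J' ≅
          (Scheme.Modules.pushforward C.subschemeι).obj ((Scheme.Modules.pullback C.subschemeι).obj J') :=
        TMul.commIso _ _ ≪≫ (S0927.projIso C.subschemeι J' hl).app (Coh.structureModule C.subscheme) ≪≫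
          (Scheme.Modules.pushforward C.subschemeι).mapIso (SecTwist.unitorR ((Scheme.Modules.pullback C.subschemeι).obj J'))
      have hP : PicF.IsInvertible ((Scheme.Modules.pullback C.subschemeι).obj J') :=
        PicLoc.isInvertible_pullback _ hJ'
      by_contra hne
      rw [CurveRR.h_eq_of_iso e 0, h_push k C.subschemeι rfl (CurveRR.isCoh_of_inv hP).1] at hne
      obtain ⟨σ, hσ⟩ := Nakai.exists_section_of_h0 k (Nat.pos_of_ne_zero hne)
      have hdeg := CurveRR.Easy.deg_nonneg (k := k) hC' hP σ hσ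
      rw [Curv2.deg, Nat.cast_one, one_mul, ← euler_push k C.subschemeι rfl (CurveRR.isCoh_of_inv hP).1,
        ← euler_push k C.subschemeι rfl (RefStalk.isCoh_structureModule (X := C.subscheme)).1,
        ← CurveRR.euler_eq_of_iso e] at hdeg
      have h5 := SurfAdj.deg_eq k hdim C hC1 hJ'
      rw [intNum_zpow k (dim_le k hdim) hL.1 _ hCi (-1) hJ' (by rw [hCcls, zpow_neg_one]),
        SurfAdj.intNum_comm k hdim, intNum_zpow k (dim_le k hdim) hL.1 _ hJ' _ hL.1 hc'] at h5
      have := selfInt_pos k hdim hL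
      change 0 ≤ Curv2.euler k X (CohB1.tensorMod (ClSub.quotMod C) J') - Curv2.euler k X (ClSub.quotMod C) at hdeg
      nlinarith
    have hsurj : Function.Surjective (CohFinite.hhMap k
        (CohFinite.tmap (ClSub.toSubscheme C) J') 0) := by
      haveI := CohFinite.finite_proper k X _ (CurveRR.isCoh_tensor' (CurveRR.isCoh_idealMod C).2 (CurveRR.isCoh_of_inv hJ')) 0
      haveI : Subsingleton (Coh.HH X (CohB1.tensorMod (ClSub.quotMod C) J') 0) := Module.finrank_zero_iff.1 hz
      exact fun y => ⟨0, Subsingleton.elim _ _⟩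
    have hres := h1_eq_zero k hS h₁ h₂
      (by
        show CurveRR.h k (CohB1.tensorMod (Coh.structureModule X) J') 1 = 0
        rw [CurveRR.h_eq_of_iso (TMul.leftUnitIso J') 1, hb]) hsurj
    have hcl : PicGrp.cls J hJ = PicGrp.cls (CohB1.tensorMod (ClSub.idealMod C) J')
        (TMul.isInvertible_tensorMod hCi hJ') := by
      rw [show PicGrp.cls (CohB1.tensorMod (ClSub.idealMod C) J') (TMul.isInvertible_tensorMod hCi hJ') =
        PicGrp.cls _ hCi * PicGrp.cls J' hJ' from Subtype.ext (PicGrp.cls_mul_cls_val _ _).symm, hc, hc', hCcls,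
        ← zpow_neg_one, ← zpow_add]
      congr 1
      push_cast
      ring
    obtain ⟨eJ⟩ := (PicGrp.cls_eq_cls_iff hJ _).1 hcl
    rw [CurveRR.h_eq_of_iso eJ 1]
    exact hres

/-- Invertible modules have no first cohomology. -/
theorem h1_line {J : X.Modules} (hJ : PicF.IsInvertible J) : CurveRR.h k J 1 = 0 := by
  haveI := CurveRR.isNoetherian_of_proper k X
  obtain ⟨j, hj⟩ := hgen (PicGrp.cls J hJ)
  rcases lt_trichotomy j 0 with hlt | rfl | hgt
  · obtain ⟨n, rfl⟩ : ∃ n : ℕ, j = -((n : ℤ) + 1) := ⟨(-j - 1).toNat, by omega⟩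
    exact h1_neg k hdim hL hgen hK hq n hJ hj
  · rw [zpow_zero] at hj
    obtain ⟨e⟩ := (PicGrp.cl_eq_cl_iff _ _).1 ((congrArg Subtype.val hj).trans PicGrp.one_val)
    rw [CurveRR.h_eq_of_iso e 1]
    exact hq
  · obtain ⟨n, rfl⟩ : ∃ n : ℕ, j = (n : ℤ) + 1 := ⟨(j - 1).toNat, by omega⟩
    have hdual := W7Hull.isInvertible_dual hJ
    haveI := W7Hull.isIso_evDual hJ
    have hdc : PicGrp.cls _ hdual = PicGrp.cls L hL.1 ^ (-((n : ℤ) + 1)) := by
      have h1 : PicGrp.cls J hJ * PicGrp.cls _ hdual = 1 := by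
        refine Subtype.ext ((PicGrp.cls_mul_cls_val hJ hdual).trans ?_)
        exact ((PicGrp.cl_eq_cl_iff _ _).2 ⟨asIso (W7Hull.evDual J)⟩).trans PicGrp.one_val.symm
      rw [zpow_neg, ← hj, eq_inv_of_mul_eq_one_right h1]
    rw [h_dual k hdim hK (ResDesc.isFinLocFree_of_isInvertible hJ) 1 (by norm_num)]
    exact h1_neg k hdim hL hgen hK hq n hdual hdc

end Groth.Agent.StabK3
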