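import Groth.Agent.StabK3.Sub
import Groth.Agent.Intersect.CurveOnSurface

/-!
The curve generating the Picard group of a K3 surface: degrees of the structure module and of line
bundles on the curve.
-/

set_option autoImplicit false
set_option backward.isDefEq.respectTransparency false
set_option backward.isDefEq.respectTransparency.types false
set_option linter.style.haveILetI false
set_option linter.unusedSectionVars false

universe u

open CategoryTheory CategoryTheory.Limits AlgebraicGeometry TopologicalSpace
open Groth.Agent.Intersect Groth.Agent.StabLib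

noncomputable section

namespace Groth.Agent.StabK3

section Ker

variable {X C : Scheme.{u}} (i : C ⟶ X) [IsClosedImmersion i]

theorem isIntegral_ker [IsIntegral C] : IsIntegral i.ker.subscheme := by
  haveI : IsIso i.toImage := inferInstance
  haveI : Nonempty i.ker.subscheme := ⟨i.toImage (Nonempty.some inferInstance)⟩
  exact isIntegral_of_isOpenImmersion (inv i.toImage)

theorem coe_support_ker : (i.ker.support : Set X) = Set.range i := by
  rw [Scheme.Hom.support_ker]
  exact i.isClosedEmbedding.isClosed_range.closure_eq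

theorem dim_support_ker : topologicalKrullDim (i.ker.support : Set X) = topologicalKrullDim C := by
  rw [coe_support_ker i]
  exact (i.isClosedEmbedding.isEmbedding.toHomeomorph.isHomeomorph.topologicalKrullDim_eq).symm

end Ker

variable (k : Type u) [Field k] [IsAlgClosed k] {X : Scheme.{u}} [X.Over (Spec (CommRingCat.of k))]
  [IsProper (X ↘ Spec (CommRingCat.of k))] [IsIntegral X] [Smooth (X ↘ Spec (CommRingCat.of k))]
  (hdim : topologicalKrullDim X = 2)
  {C : Scheme.{u}} [IsIntegral C] (i : C ⟶ X) [IsClosedImmersion i] (hC : topologicalKrullDim C = 1)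
  {L : X.Modules} (hL : CohB1.IsAmple L) (hLI : ClSub.IsInverseOf L (ClSub.idealMod i.ker))

include hdim hC hL hLI

/-- The generating curve has positive self-intersection. -/
theorem curve_sq_pos :
    0 < FGA.intNum k X 2 ![ClSub.idealMod i.ker, ClSub.idealMod i.ker] (Coh.structureModule X) := by
  haveI := isIntegral_ker i
  have hC1 : topologicalKrullDim (i.ker.support : Set X) = 1 := (dim_support_ker i).trans hC
  obtain ⟨e⟩ := hLI
  have hI := SurfAdj.inv_ideal k hdim i.ker hC1
  have h1 := SurfAdj.deg_ample_pos k hdim i.ker hC1 hL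
  have h2 := SurfAdj.deg_inv k hdim i.ker hC1 (N := L) ⟨e⟩
  have h3 := SurfAdj.deg_eq k hdim i.ker hC1 hL.1
  rw [h3] at h2
  linarith

/-- On a surface with trivial canonical module the structure module has degree zero. -/
theorem δ_unit (hK : Canon.IsTopDiff (X ↘ Spec (CommRingCat.of k)) 2 (Coh.structureModule X)) :
    δ k L (Coh.structureModule X) = 0 := by
  haveI := CurveRR.isNoetherian_of_proper k X
  haveI := isIntegral_ker i
  have hC1 : topologicalKrullDim (i.ker.support : Set X) = 1 := (dim_support_ker i).trans hC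
  obtain ⟨e⟩ := hLI
  have hI := SurfAdj.inv_ideal k hdim i.ker hC1
  rw [δ_structure k hL hI e hdim.le]
  have h := SurfAdj.adj k hdim hK i.ker hC1
  have hz : FGA.intNum k X 2 ![ClSub.idealMod i.ker, Coh.structureModule X] (Coh.structureModule X) = 0 := by
    have h0 : (FGA.intNum k X 2 ![ClSub.idealMod i.ker, Coh.structureModule X] (Coh.structureModule X) : ℚ) = 0 := by
      rw [SurfAdj.intNum_inter k hdim, Nakai.inter_comm, Nakai.inter_one]
    exact_mod_cast h0
  rw [hz, sub_zero] at h
  obtain ⟨hIc, hQc⟩ := CurveRR.isCoh_idealMod i.ker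
  have h2 := CurveRR.euler_add (k := k) (CurveRR.ideal_shortExact i.ker)
  dsimp only at h2
  have hadd : Curv2.euler k X (Coh.structureModule X) =
      Curv2.euler k X (ClSub.idealMod i.ker) + Curv2.euler k X (ClSub.quotMod i.ker) :=
    h2 hIc RefStalk.isCoh_structureModule hQc
  rw [hadd, h]
  push_cast
  ring

/-- The degree of a line bundle on the generating curve. -/
theorem δ_push {A : C.Modules} (hA : PicF.IsInvertible A) :
    δ k L ((Coh.push i).obj A) =
      (FGA.intNum k X 2 ![ClSub.idealMod i.ker, ClSub.idealMod i.ker] (Coh.structureModule X) : ℚ) := by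
  letI : C.Over (Spec (CommRingCat.of k)) := ⟨i ≫ (X ↘ Spec (CommRingCat.of k))⟩
  haveI : IsProper (C ↘ Spec (CommRingCat.of k)) := inferInstanceAs (IsProper (i ≫ _))
  haveI := CurveRR.isNoetherian_of_proper k X
  haveI := CurveRR.isNoetherian_of_proper k C
  haveI := isIntegral_ker i
  have hC1 : topologicalKrullDim (i.ker.support : Set X) = 1 := (dim_support_ker i).trans hC
  obtain ⟨e⟩ := hLI
  have hI := SurfAdj.inv_ideal k hdim i.ker hC1
  have hP : Coh.IsCoh ((Scheme.Modules.pushforward i).obj A) := SerrePn.isCoh_push i (CurveRR.isCoh_of_inv hA)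
  have hd : topologicalKrullDim (CohB1.support ((Scheme.Modules.pushforward i).obj A)) ≤ (1 : ℕ) := by
    rw [Nat.cast_one, ← hC1, coe_support_ker i]
    exact Topology.IsInducing.topologicalKrullDim_le (f := Set.inclusion (CurveRR.support_push i A))
      (Topology.IsEmbedding.inclusion _).isInducing
  change δ k L ((Scheme.Modules.pushforward i).obj A) = _
  rw [(δ_eq_intNum k hL hI e hdim.le hP hd).2]
  obtain ⟨f⟩ := SerrePn.nonempty_pushTwist i A hI
  have hiI := PicLoc.isInvertible_pullback i hI
  rw [CurveRR.Multi.euler_push k i A (TMul.isQCoh_of_isInvertible hA), CurveRR.euler_eq_of_iso f,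
    CurveRR.Multi.euler_push k i _ (CurveRR.isCoh_tensor' (CurveRR.isCoh_of_inv hA) (CurveRR.isCoh_of_inv hiI)).1,
    CurveRR.euler_eq_of_iso (TMul.commIso A _)]
  have hdC : topologicalKrullDim C ≤ 1 := hC.le
  have h1 := CurveRR.euler_tensor (k := k) hdC (CurveRR.isFinLocFreeOfRank_one hiI) A (CurveRR.isCoh_of_inv hA)
  rw [CurveRR.finrank_stalk_inv hA] at h1
  have h2 := SurfAdj.deg_eq k hdim i.ker hC1 hI
  rw [Intersect.euler_quot_twist k i hI] at h2
  have h3 : Curv2.euler k X (ClSub.quotMod i.ker) = Curv2.euler k C (Coh.structureModule C) := by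
    rw [CurveRR.euler_eq_of_iso (SecTwist.unitorR (ClSub.quotMod i.ker)).symm,
      Intersect.euler_quot_twist k i TMul.isInvertible_structureModule]
    exact CurveRR.euler_eq_of_iso (PicLoc.pullbackStructureIso i)
  rw [h3] at h2
  rw [Curv2.deg] at h1
  have h4 : Curv2.euler k C A - Curv2.euler k C (CohB1.tensorMod ((Scheme.Modules.pullback i).obj (ClSub.idealMod i.ker)) A) =
      FGA.intNum k X 2 ![ClSub.idealMod i.ker, ClSub.idealMod i.ker] (Coh.structureModule X) := by
    push_cast at h1 ⊢
    omega
  exact_mod_cast h4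

end Groth.Agent.StabK3
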