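import Groth.Agent.StabK3.RankOne
import Groth.Agent.StabLib.Simple

/-!
Torsion-free modules of rank two on a smooth projective surface with Picard rank one.
-/

set_option autoImplicit false
set_option linter.unusedSectionVars false
set_option linter.style.haveILetI false
set_option linter.style.longLine false
set_option backward.isDefEq.respectTransparency false
set_option backward.isDefEq.respectTransparency.types false

universe u

open CategoryTheory CategoryTheory.Limits AlgebraicGeometry TopologicalSpace Polynomial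

noncomputable section

namespace Groth.Agent.StabK3

open Groth.Agent.W7Slope (grk grk_add grk_iso)

/-- Torsion-free coherent modules are pure of full dimension. -/
theorem isPure_of_isTorsionFree {X : Scheme.{u}} [IsIntegral X] {n : ℕ}
    (hX : topologicalKrullDim X = (n : WithBot ℕ∞)) {F : X.Modules} (hF : Coh.IsCoh F)
    (htf : TorSh.IsTorsionFree F) : ShStab.IsPure X F n := by
  intro G ι hι hG h0
  obtain ⟨y, hy⟩ := StabLib.Sh.support_nonempty h0
  obtain ⟨v, hv⟩ := @exists_ne _ (not_subsingleton_iff_nontrivial.1 hy) (0 : G.presheaf.stalk y)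
  haveI := htf y
  have hξ : genericPoint X ∈ CohB1.support G := fun hs => by
    apply hv
    have hinj : Function.Injective (RefHull.stalkMapₗ ι y) := WeakAssLib.stalkHom_injective ι y
    refine hinj (RefStalk.msp_injective hF.1 y ?_)
    rw [← RefStalk.stalkMap_msp ι (RefStalk.toGen y) v, map_zero, map_zero,
      show RefStalk.msp G (RefStalk.toGen y) v = 0 from
        @Subsingleton.elim _ hs _ _, map_zero]
  have huniv : CohB1.support G = Set.univ := Set.eq_univ_of_univ_subset
    ((genericPoint_spec X).symm ▸ (closure_minimal (Set.singleton_subset_iff.2 hξ)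
      (QC.isClosed_support hG.2)))
  rw [huniv, (Homeomorph.Set.univ X).isHomeomorph.topologicalKrullDim_eq, hX]

variable (k : Type u) [Field k] [IsAlgClosed k] {X : Scheme.{u}} [X.Over (Spec (CommRingCat.of k))]
  [IsProper (X ↘ Spec (CommRingCat.of k))] [IsIntegral X] [Smooth (X ↘ Spec (CommRingCat.of k))]
  (hdim : topologicalKrullDim X = 2) {L : X.Modules} (hL : CohB1.IsAmple L) [PicGrp.Law X]
  (hgen : ∀ c : PicLoc.PicSet X, ∃ n : ℤ, c = PicGrp.cls L hL.1 ^ n)

include k hdim hL hgen

theorem δ_polarisation : δ k L L = δ k L (Coh.structureModule X) + 2 * μ k L := by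
  have h := (line k hdim hL hL.1 1 (zpow_one _).symm).2
  simpa using h

theorem grk_structure : grk (Coh.structureModule X) = 1 :=
  (sub_line k hdim hL hgen (CurveRR.isCoh_of_inv TMul.isInvertible_structureModule)
    TMul.isInvertible_structureModule (fun h => by
      haveI := CurveRR.isNoetherian_of_proper k X
      have h2 := μ_pos k hdim hL
      have h0 := (StabLib.Sh.inv k hL).hp_zero h (RefStalk.isCoh_structureModule (X := X))
      change StabLib.Sh.hp k L _ = 0 at h0
      rw [μ, h0, Polynomial.coeff_zero] at h2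
      exact lt_irrefl _ h2) (𝟙 _)).1

/-- A non-split extension of a twisted ideal by the structure module is slope stable. -/
theorem isMuStable_extension (N : X.Modules) (ι : N ⟶ L) [Mono ι] (hN : Coh.IsCoh N)
    (hZ : topologicalKrullDim (CohB1.support (cokernel ι)) ≤ 0)
    (V : X.Modules) (hV : Coh.IsCoh V) (hVtf : TorSh.IsTorsionFree V)
    (a : Coh.structureModule X ⟶ V) (b : V ⟶ N) (w : a ≫ b = 0)
    (hex : (ShortComplex.mk a b w).ShortExact)
    (hns : ∀ r : V ⟶ Coh.structureModule X, a ≫ r ≠ 𝟙 (Coh.structureModule X)) :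
    ShStab.IsMuStable k X L V 2 := by
  haveI := CurveRR.isNoetherian_of_proper k X
  have hO : Coh.IsCoh (Coh.structureModule X) := RefStalk.isCoh_structureModule
  haveI : Mono a := hex.mono_f
  haveI : Epi b := hex.epi_g
  have hN0 : ¬ IsZero N := fun hz => by
    haveI : Epi a := (ShortComplex.ShortExact.mk hex.exact).exact.epi_f (hz.eq_of_tgt _ _)
    haveI : IsIso a := isIso_of_mono_of_epi a
    exact hns (inv a) (IsIso.hom_inv_id a)
  obtain ⟨hNr, -, hNδ⟩ := sub_line k hdim hL hgen hN hL.1 hN0 ι
  have hC : Coh.IsCoh (cokernel ι) := QC.isCoh_cokernel hN.1 (CurveRR.isCoh_of_inv hL.1) ι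
  rw [(torsion k hdim hL hgen hC (hZ.trans (by norm_cast))).2.2 hZ, add_zero, δ_polarisation k hdim hL hgen] at hNδ
  have hVr : grk V = 2 := by
    have h := grk_add (S := ShortComplex.mk a b w) hex hV
    change grk V = _ + grk N at h
    rw [h, hNr, show grk (Coh.structureModule X) = 1 from grk_structure k hdim hL hgen]
  have hVδ : δ k L V = 2 * δ k L (Coh.structureModule X) + 2 * μ k L := by
    have h := δ_add k hL hex hO hV hN
    change δ k L V = δ k L (Coh.structureModule X) + δ k L N at h
    rw [h, ← hNδ]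
    ring
  have hμ := μ_pos k hdim hL
  have hd2 : topologicalKrullDim X = ((2 : ℕ) : WithBot ℕ∞) := hdim.trans (by norm_cast)
  have hpure := isPure_of_isTorsionFree hd2 hV hVtf
  have hV0 : ¬ IsZero V := fun hz => hN0 (IsZero.of_epi b hz)
  refine ⟨hV, hV0, hpure _ (𝟙 _) inferInstance hV hV0, fun G g hg hG => ?_, ?_⟩
  · by_cases hG0 : IsZero G
    · rw [StabLib.Sh.isEmpty_support hG0, StabLib.Sh.dim_empty, WithBot.bot_add]
      exact WithBot.bot_ne_coe
    · rw [hpure G g hg hG hG0]
      exact fun h => by
        have : ((3 : ℕ) : WithBot ℕ∞) = ((2 : ℕ) : WithBot ℕ∞) := by rw [← h]; norm_cast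
        norm_cast at this
  intro G g hg hG pF pE hpF hpE ha1 ha2
  rw [StabLib.Sh.hilb_iff k hL.1 hG] at hpF
  rw [StabLib.Sh.hilb_iff k hL.1 hV] at hpE
  subst hpF hpE
  have hcG := coeff_two k hdim hL hG
  have hcV := coeff_two k hdim hL hV
  rw [hVr] at hcV
  have hGr : grk G = 1 := by
    have h1 : (0 : ℚ) < (grk G : ℚ) := by
      rw [StabCat.alpha, hcG] at ha1
      norm_num at ha1
      nlinarith
    have h2 : (grk G : ℚ) < 2 := by
      rw [StabCat.alpha, StabCat.alpha, hcG, hcV] at ha2
      norm_num at ha2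
      nlinarith
    have h1' : 0 < grk G := by exact_mod_cast h1
    have h2' : grk G < 2 := by exact_mod_cast h2
    omega
  have hG0 : ¬ IsZero G := fun hz => by
    haveI : Subsingleton (G.presheaf.stalk (genericPoint X)) := not_not.1 fun h => by
      have : genericPoint X ∈ CohB1.support G := h
      rw [StabLib.Sh.isEmpty_support hz] at this
      exact this
    rw [grk, Module.finrank_zero_of_subsingleton] at hGr
    exact zero_ne_one hGr
  suffices hδ : δ k L G ≤ δ k L (Coh.structureModule X) by
    have e1 : ∀ E : X.Modules, StabCat.alpha (2 - 1) (StabLib.Sh.hp k L E) = δ k L E := fun E => by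
      rw [StabCat.alpha, δ]; simp
    rw [StabCat.hatSlope, StabCat.hatSlope, e1, e1, hVδ, div_lt_div_iff₀ ha1 (ha1.trans ha2), StabCat.alpha,
      StabCat.alpha, hcG, hcV, hGr]
    norm_num
    nlinarith
  by_cases hf : g ≫ b ≫ ι = 0
  · have hgb : g ≫ b = 0 := (cancel_mono ι).1 (by rw [Category.assoc, hf, Limits.zero_comp])
    let g' : G ⟶ Coh.structureModule X := hex.exact.lift g hgb
    have hg' : g' ≫ a = g := hex.exact.lift_f g hgb
    haveI : Mono g' := mono_of_mono_fac hg'
    obtain ⟨-, hd1, hδ⟩ := sub_line k hdim hL hgen hG TMul.isInvertible_structureModule hG0 g'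
    have := (torsion k hdim hL hgen (QC.isCoh_cokernel hG.1 hO g') hd1).1
    linarith
  have hinj : Mono (g ≫ b ≫ ι) := by
    refine Preadditive.mono_of_isZero_kernel _ (by_contra fun hK0 => ?_)
    have hK : Coh.IsCoh (kernel (g ≫ b ≫ ι)) := QC.isCoh_kernel hG (CurveRR.isCoh_of_inv hL.1).1 _
    have hKb : (kernel.ι (g ≫ b ≫ ι) ≫ g) ≫ b = 0 := (cancel_mono ι).1 (by
      simp only [Category.assoc]
      rw [kernel.condition, Limits.zero_comp])
    haveI : Mono (hex.exact.lift _ hKb) := mono_of_mono_fac (hex.exact.lift_f _ hKb)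
    have hKr := (sub_line k hdim hL hgen hK TMul.isInvertible_structureModule hK0 (hex.exact.lift _ hKb)).1
    have hI : Coh.IsCoh (Abelian.image (g ≫ b ≫ ι)) :=
      StabLib.Inv.ok_image (I := StabLib.Sh.inv k hL) hG (CurveRR.isCoh_of_inv hL.1) _
    have hI0 : ¬ IsZero (Abelian.image (g ≫ b ≫ ι)) := fun hz => hf (by
      rw [← Abelian.image.fac (g ≫ b ≫ ι), hz.eq_of_tgt (Abelian.factorThruImage (g ≫ b ≫ ι)) 0, Limits.zero_comp])
    have hIr := (sub_line k hdim hL hgen hI hL.1 hI0 (Abelian.image.ι _)).1
    have hS : (ShortComplex.mk (kernel.ι (g ≫ b ≫ ι)) (Abelian.factorThruImage (g ≫ b ≫ ι))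
        ((cancel_mono (Abelian.image.ι _)).1 (by
          rw [Category.assoc, Abelian.image.fac, kernel.condition, Limits.zero_comp]))).ShortExact :=
      { exact := ShortComplex.exact_of_f_is_kernel _ (KernelFork.IsLimit.ofι' _ _ fun {Z} h hh =>
          ⟨kernel.lift _ h (by rw [← Abelian.image.fac (g ≫ b ≫ ι), ← Category.assoc, hh, Limits.zero_comp]),
            kernel.lift_ι _ _ _⟩) }
    have h := grk_add hS hG
    change grk G = _ + _ at h
    rw [hKr, hIr] at h
    omega
  obtain ⟨-, hd1, hδ⟩ := sub_line k hdim hL hgen hG hL.1 hG0 (g ≫ b ≫ ι)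
  obtain ⟨-, hsmall, -⟩ := torsion k hdim hL hgen (QC.isCoh_cokernel hG.1 (CurveRR.isCoh_of_inv hL.1) _) hd1
  rw [δ_polarisation k hdim hL hgen] at hδ
  by_contra hlt
  have hd0 := hsmall (by linarith)
  -- the composite is an isomorphism away from finitely many points, so the extension splits
  have hW : Coh.IsCoh (cokernel g) := QC.isCoh_cokernel hG.1 hV g
  let φ : Coh.structureModule X ⟶ RefHull.ddual (cokernel g) :=
    a ≫ cokernel.π g ≫ RefHull.bidualMap (cokernel g)
  haveI : IsIso φ := by
    refine isIso_off_finite k hdim φ hO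
      (RefStalk.isCoh_homSh (RefStalk.isCoh_homSh hW RefStalk.isCoh_structureModule) RefStalk.isCoh_structureModule)
      (fun x => RefDiv.reflexive_of_isInvertible TMul.isInvertible_structureModule x)
      (fun x => RefStalk.isReflexiveAt_ddual hW x) _
      (QC.isClosed_support (QC.isCoh_cokernel hG.1 (CurveRR.isCoh_of_inv hL.1) (g ≫ b ≫ ι)).2) hd0 fun x hx => ?_
    have hsf := surjective_of_notMem (g ≫ b ≫ ι) x hx
    have hif := WeakAssLib.stalkHom_injective (g ≫ b ≫ ι) x
    have hιi := WeakAssLib.stalkHom_injective ι x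
    have hfx : ∀ γ, WeakAssLib.stalkHom (g ≫ b ≫ ι) x γ =
        WeakAssLib.stalkHom ι x (WeakAssLib.stalkHom b x (WeakAssLib.stalkHom g x γ)) := fun γ =>
      (RefDiv.stalkMap_comp g (b ≫ ι) x γ).trans (RefDiv.stalkMap_comp b ι x _)
    have hπg : ∀ γ, WeakAssLib.stalkHom (cokernel.π g) x (WeakAssLib.stalkHom g x γ) = 0 := fun γ => by
      refine (RefDiv.stalkMap_comp g (cokernel.π g) x γ).symm.trans ?_
      rw [cokernel.condition]
      exact W7Hull.st_zero x γ
    have hba : ∀ t, WeakAssLib.stalkHom b x (WeakAssLib.stalkHom a x t) = 0 := fun t => by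
      refine (RefDiv.stalkMap_comp a b x t).symm.trans ?_
      rw [w]
      exact W7Hull.st_zero x t
    have hπ : Function.Surjective (WeakAssLib.stalkHom (cokernel.π g) x) := fun v => by
      obtain ⟨u, hu⟩ := (ModuleCat.epi_iff_surjective _).1
        (inferInstance : Epi ((DerSch.stalkFunctor X x).map (cokernel.π g))) v
      exact ⟨u, hu⟩
    have hbij : Function.Bijective (RefHull.stalkMapₗ (a ≫ cokernel.π g) x) := by
      constructor
      · refine (injective_iff_map_eq_zero _).2 fun t ht => ?_
        have ht' : WeakAssLib.stalkHom (cokernel.π g) x (WeakAssLib.stalkHom a x t) = 0 :=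
          (RefDiv.stalkMap_comp a (cokernel.π g) x t).symm.trans ht
        obtain ⟨γ, hγ⟩ := WeakAssLib.stalk_exact (ShortComplex.mk g (cokernel.π g) (cokernel.condition g))
          { exact := ShortComplex.exact_cokernel g, mono_f := hg, epi_g := inferInstance } x _ ht'
        change WeakAssLib.stalkHom g x γ = WeakAssLib.stalkHom a x t at hγ
        have hγ0 : γ = 0 := hif (by rw [hfx, hγ, hba, map_zero, map_zero])
        rw [hγ0, map_zero] at hγ
        exact WeakAssLib.stalkHom_injective a x (hγ.symm.trans (map_zero _).symm)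
      · intro w'
        obtain ⟨v, rfl⟩ := hπ w'
        obtain ⟨γ, hγ⟩ := hsf (WeakAssLib.stalkHom ι x (WeakAssLib.stalkHom b x v))
        rw [hfx] at hγ
        have h0 : WeakAssLib.stalkHom b x (v - WeakAssLib.stalkHom g x γ) = 0 := by
          rw [map_sub, hιi hγ, sub_self]
        obtain ⟨t, ht⟩ := WeakAssLib.stalk_exact (ShortComplex.mk a b w) hex x _ h0
        change WeakAssLib.stalkHom a x t = _ at ht
        refine ⟨t, (RefDiv.stalkMap_comp a (cokernel.π g) x t).trans ?_⟩
        show WeakAssLib.stalkHom (cokernel.π g) x (WeakAssLib.stalkHom a x t) = _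
        rw [ht, map_sub, hπg, sub_zero]
    have hrefl : Module.IsReflexive (X.presheaf.stalk x) ((cokernel g).presheaf.stalk x) := by
      haveI := RefDiv.reflexive_of_isInvertible (TMul.isInvertible_structureModule (X := X)) x
      let e := LinearEquiv.ofBijective _ hbij
      exact Module.IsReflexive.of_split e.symm.toLinearMap e.toLinearMap
        (LinearMap.ext fun m => e.apply_symm_apply m)
    have hb := RefStalk.bijective_stalkMap_bidualMap hW x hrefl
    have heq : (RefHull.stalkMapₗ φ x : _ → _) =
        RefHull.stalkMapₗ (RefHull.bidualMap (cokernel g)) x ∘ RefHull.stalkMapₗ (a ≫ cokernel.π g) x := by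
      funext t
      show RefHull.stalkMapₗ φ x t = _
      rw [show φ = (a ≫ cokernel.π g) ≫ RefHull.bidualMap _ from (Category.assoc _ _ _).symm]
      exact RefDiv.stalkMap_comp _ _ x t
    rw [heq]
    exact hb.comp hbij
  exact hns (cokernel.π g ≫ RefHull.bidualMap (cokernel g) ≫ inv φ) (by
    rw [← Category.assoc, ← Category.assoc, show (a ≫ cokernel.π g) ≫ RefHull.bidualMap _ = φ from Category.assoc _ _ _,
      IsIso.hom_inv_id])

end Groth.Agent.StabK3
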