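import Groth.Agent.StabK3.RankTwoSec

/-!
Stable modules of rank two with the first Chern class of the polarisation as extensions.
-/

set_option autoImplicit false
set_option linter.unusedSectionVars false
set_option linter.style.haveILetI false
set_option linter.style.longLine false
set_option backward.isDefEq.respectTransparency false
set_option backward.isDefEq.respectTransparency.types false

universe u

open CategoryTheory CategoryTheory.Limits AlgebraicGeometry TopologicalSpace Polynomial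

noncomputable section

namespace Groth.Agent.StabK3

open Groth.Agent.W7Slope (grk grk_add grk_iso)

variable (k : Type u) [Field k] [IsAlgClosed k] {X : Scheme.{u}} [X.Over (Spec (CommRingCat.of k))]
  [IsProper (X ↘ Spec (CommRingCat.of k))] [IsIntegral X] [Smooth (X ↘ Spec (CommRingCat.of k))]
  (hdim : topologicalKrullDim X = 2) {L : X.Modules} (hL : CohB1.IsAmple L) [PicGrp.Law X]
  (hgen : ∀ c : PicLoc.PicSet X, ∃ n : ℤ, c = PicGrp.cls L hL.1 ^ n)
  {V : X.Modules} (hst : ShStab.IsStable k X L V 2) (hVtf : TorSh.IsTorsionFree V) (hVr : grk V = 2)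

include k hdim hL hgen hst hVtf hVr

/-- Saturation of a map from an invertible module. -/
theorem exists_saturation (hVδ : δ k L V = 2 * δ k L (Coh.structureModule X) + 2 * μ k L)
    {A : X.Modules} (hA : PicF.IsInvertible A) {a : ℤ}
    (ha : PicGrp.cls A hA = PicGrp.cls L hL.1 ^ a) (s : A ⟶ V) (hs0 : s ≠ 0) :
    ∃ (M : X.Modules) (hM : PicF.IsInvertible M) (c : V ⟶ M) (hs : s ≫ c = 0)
      (hK : PicF.IsInvertible (RefHull.ddual (kernel c))) (i : ℤ),
      topologicalKrullDim (CohB1.support (cokernel (Abelian.image.ι c))) ≤ 0 ∧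
      PicGrp.cls _ hK = PicGrp.cls L hL.1 ^ i ∧ PicGrp.cls M hM = PicGrp.cls L hL.1 ^ (1 - i) ∧
      i ≤ 0 ∧ a ≤ i ∧ (i = a → IsIso (kernel.lift c s hs)) := by
  haveI := CurveRR.isNoetherian_of_proper k X
  haveI := mono_of_ne_zero k hdim hL hgen hst hVr hA s hs0
  have hV := hst.1
  have hμ := μ_pos k hdim hL
  obtain ⟨M, c, hs, hM, hc, hcd, hmono⟩ := split k hdim hV hVtf hVr (CurveRR.isCoh_of_inv hA) (grk_line hA) s
  have hMc := CurveRR.isCoh_of_inv hM
  obtain ⟨w, hS⟩ := shortExact_image c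
  have hI : Coh.IsCoh (Abelian.image c) := QC.isCoh_kernel hMc (QC.isCoh_cokernel hV.1 hMc c).1 _
  have hKc : Coh.IsCoh (kernel c) := QC.isCoh_kernel hV hMc.1 c
  have hI0 : ¬ IsZero (Abelian.image c) := fun hz => hc (by
    rw [← Abelian.image.fac c, hz.eq_of_tgt (Abelian.factorThruImage c) 0, Limits.zero_comp])
  obtain ⟨hIr, hId, hIδ⟩ := sub_line k hdim hL hgen hI hM hI0 (Abelian.image.ι c)
  rw [(torsion k hdim hL hgen (QC.isCoh_cokernel hI.1 hMc (Abelian.image.ι c)) hId).2.2 hcd, add_zero] at hIδ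
  have hr := grk_add hS hV
  change grk V = grk (kernel c) + grk (Abelian.image c) at hr
  have hKr : grk (kernel c) = 1 := by omega
  haveI := hmono hKr
  obtain ⟨hK, hKsur⟩ := hull k hdim hKc hKr
  have hK0 : ¬ IsZero (kernel c) := fun hz => by
    have h := (StabLib.Sh.inv k hL).hp_zero hz hKc
    change StabLib.Sh.hp k L (kernel c) = 0 at h
    have h2 := coeff_two k hdim hL hKc
    rw [h, Polynomial.coeff_zero, hKr, Nat.cast_one, one_mul] at h2
    exact hμ.ne h2
  obtain ⟨-, hKd, hKδ⟩ := sub_line k hdim hL hgen hKc hK hK0 (RefHull.bidualMap (kernel c))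
  have hKcc := CurveRR.isCoh_of_inv hK
  have hKd0 : topologicalKrullDim (CohB1.support (cokernel (RefHull.bidualMap (kernel c)))) ≤ 0 :=
    dim_le_zero k hdim (QC.isClosed_support (QC.isCoh_cokernel hKc.1 hKcc (RefHull.bidualMap (kernel c))).2)
      fun x hx => CurveRR.notMem_support_coker _ x (hKsur x hx)
  rw [(torsion k hdim hL hgen (QC.isCoh_cokernel hKc.1 hKcc (RefHull.bidualMap (kernel c))) hKd).2.2 hKd0,
    add_zero] at hKδ
  obtain ⟨i, hi⟩ := hgen (PicGrp.cls _ hK)
  obtain ⟨l, hl⟩ := hgen (PicGrp.cls M hM)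
  have e1 := (line k hdim hL hK i hi).2
  have e2 := (line k hdim hL hM l hl).2
  have e3 := (line k hdim hL hA a ha).2
  have hd := δ_add k hL hS hKc hV hI
  change δ k L V = δ k L (kernel c) + δ k L (Abelian.image c) at hd
  have hb := two_δ_le k hdim hL hgen hst hVr (kernel.ι c) hKc hKr
  have hsum : i + l = 1 := by
    have h : ((i : ℚ) + l) * μ k L = 1 * μ k L := by linarith
    exact_mod_cast mul_right_cancel₀ hμ.ne' h
  have hi0 : i ≤ 0 := by
    by_contra hc'
    have h1 : (1 : ℚ) ≤ (i : ℚ) := by exact_mod_cast Int.not_le.1 hc'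
    nlinarith
  let q : A ⟶ RefHull.ddual (kernel c) := kernel.lift c s hs ≫ RefHull.bidualMap (kernel c)
  haveI : Mono (kernel.lift c s hs) := mono_of_mono_fac (kernel.lift_ι c s hs)
  haveI : Mono q := mono_comp _ _
  have hAc := CurveRR.isCoh_of_inv hA
  have hA0 : ¬ IsZero A := fun hz => hs0 (hz.eq_of_src s 0)
  obtain ⟨-, hqd, hqδ⟩ := sub_line k hdim hL hgen hAc hK hA0 q
  have hQ : Coh.IsCoh (cokernel q) := QC.isCoh_cokernel hAc.1 hKcc q
  obtain ⟨hq0, hqsmall, -⟩ := torsion k hdim hL hgen hQ hqd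
  refine ⟨M, hM, c, hs, hK, i, hcd, hi, ?_, hi0, ?_, fun hia => ?_⟩
  · rw [hl, show l = 1 - i by omega]
  · by_contra hc'
    have h1 : (i : ℚ) + 1 ≤ (a : ℚ) := by exact_mod_cast Int.not_le.1 hc'
    nlinarith
  · subst hia
    have hd0 := hqsmall (by linarith)
    haveI : IsIso q := isIso_off_finite k hdim q hAc hKcc (fun x => RefDiv.reflexive_of_isInvertible hA x)
      (fun x => RefDiv.reflexive_of_isInvertible hK x) _ (QC.isClosed_support hQ.2) hd0 fun x hx =>
        ⟨WeakAssLib.stalkHom_injective q x, surjective_of_notMem q x hx⟩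
    haveI : IsSplitEpi (RefHull.bidualMap (kernel c)) :=
      IsSplitEpi.mk' ⟨inv q ≫ kernel.lift c s hs, by rw [Category.assoc]; exact IsIso.inv_hom_id q⟩
    haveI : IsIso (RefHull.bidualMap (kernel c)) := isIso_of_mono_of_epi _
    exact IsIso.of_isIso_comp_right (kernel.lift c s hs) (RefHull.bidualMap (kernel c))

variable (hK3 : Canon.IsTopDiff (X ↘ Spec (CommRingCat.of k)) 2 (Coh.structureModule X))
  (hVδ : δ k L V = 2 * μ k L)

include hK3 hVδ

omit hVtf in
/-- No homomorphisms to the structure module. -/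
theorem hom_structure_eq_zero (φ : V ⟶ Coh.structureModule X) : φ = 0 := by
  have h0 := δ_structure_eq_zero k hdim hK3 hL
  refine hom_eq_zero k hdim hL hgen hst hVr (by rw [h0, hVδ]; ring) TMul.isInvertible_structureModule (j := 0) ?_ le_rfl φ
  rw [zpow_zero]
  exact Subtype.ext PicGrp.one_val.symm

/-- With positive Euler characteristic the module is an extension by the structure module. -/
theorem exists_extension_structure (he : 1 ≤ Curv2.euler k X V) :
    ∃ (N : X.Modules) (ι : N ⟶ L) (_ : Mono ι) (_ : Coh.IsCoh N)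
      (_ : topologicalKrullDim (CohB1.support (cokernel ι)) ≤ 0)
      (a : Coh.structureModule X ⟶ V) (b : V ⟶ N) (w : a ≫ b = 0),
      (ShortComplex.mk a b w).ShortExact ∧
        ∀ r : V ⟶ Coh.structureModule X, a ≫ r ≠ 𝟙 (Coh.structureModule X) := by
  haveI := CurveRR.isNoetherian_of_proper k X
  have h0 := δ_structure_eq_zero k hdim hK3 hL
  have hV := hst.1
  have hhom := hom_structure_eq_zero k hdim hL hgen hst hVr hK3 hVδ
  obtain ⟨s, hs0⟩ := exists_hom k hdim hK3 hV hhom he
  have hone : PicGrp.cls (Coh.structureModule X) TMul.isInvertible_structureModule = PicGrp.cls L hL.1 ^ (0 : ℤ) := by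
    rw [zpow_zero]
    exact Subtype.ext PicGrp.one_val.symm
  obtain ⟨M, hM, c, hs, hK, i, hcd, -, hMl, hi0, hai, hiso⟩ :=
    exists_saturation k hdim hL hgen hst hVtf hVr (by rw [h0, hVδ]; ring) TMul.isInvertible_structureModule hone s hs0
  have hi : i = 0 := le_antisymm hi0 hai
  haveI := hiso hi
  rw [hi, sub_zero, zpow_one] at hMl
  obtain ⟨e⟩ := (PicGrp.cls_eq_cls_iff hM hL.1).1 hMl
  obtain ⟨w, hS⟩ := shortExact_image c
  have hMc := CurveRR.isCoh_of_inv hM
  have hI : Coh.IsCoh (Abelian.image c) := QC.isCoh_kernel hMc (QC.isCoh_cokernel hV.1 hMc c).1 _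
  have hw : s ≫ Abelian.factorThruImage c = 0 := by
    rw [← kernel.lift_ι c s hs, Category.assoc, w, Limits.comp_zero]
  refine ⟨Abelian.image c, Abelian.image.ι c ≫ e.hom, mono_comp _ _, hI, ?_, s, Abelian.factorThruImage c, hw, ?_, fun r hr => ?_⟩
  · refine le_trans ((Topology.IsEmbedding.inclusion ?_).isInducing.topologicalKrullDim_le) hcd
    intro x hx
    by_contra hx'
    refine CurveRR.notMem_support_coker (Abelian.image.ι c ≫ e.hom) x (fun m => ?_) hx
    obtain ⟨m', hm'⟩ := stalk_surjective e.hom x m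
    obtain ⟨v, hv⟩ := surjective_of_notMem (Abelian.image.ι c) x hx' m'
    exact ⟨v, (RefDiv.stalkMap_comp _ _ x v).trans ((congrArg _ hv).trans hm')⟩
  · refine ShortComplex.shortExact_of_iso (ShortComplex.isoMk (S₁ := ShortComplex.mk (kernel.ι c) (Abelian.factorThruImage c) w)
      (S₂ := ShortComplex.mk s (Abelian.factorThruImage c) hw) (asIso (kernel.lift c s hs)).symm (Iso.refl _) (Iso.refl _) ?_ ?_) hS
    · simp
    · simp
  · rw [hhom r, Limits.comp_zero] at hr
    have h := grk_line (TMul.isInvertible_structureModule (X := X))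
    have hz : IsZero (Coh.structureModule X) := (IsZero.iff_id_eq_zero _).2 hr.symm
    exact hs0 (hz.eq_of_src s 0)

/-- With a positive value of the Hilbert polynomial at `n` the module is an extension of type at most `n`. -/
theorem exists_extension_type_le (hVrefl : ∀ x : X, Module.IsReflexive (X.presheaf.stalk x) (V.presheaf.stalk x))
    (n : ℕ) (he : 1 ≤ Curv2.euler k X (CohB1.tensorMod V (CohB1.tensorPow L n))) :
    ∃ (m : ℕ) (_ : m ≤ n) (M : X.Modules) (hM : PicF.IsInvertible M)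
      (_ : PicGrp.cls M hM * PicGrp.cls L hL.1 ^ m = 1)
      (N : X.Modules) (ι : N ⟶ CohB1.tensorPow L (m + 1)) (_ : Mono ι) (_ : Coh.IsCoh N)
      (_ : topologicalKrullDim (CohB1.support (cokernel ι)) ≤ 0)
      (a : M ⟶ V) (b : V ⟶ N) (w : a ≫ b = 0),
      (ShortComplex.mk a b w).ShortExact := by
  haveI := CurveRR.isNoetherian_of_proper k X
  have h0 := δ_structure_eq_zero k hdim hK3 hL
  have hV := hst.1
  let T := CohB1.tensorPow L n
  have hT : PicF.IsInvertible T := TMul.isInvertible_tensorPow hL.1 n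
  obtain ⟨I, hI, ⟨e⟩⟩ := W7Hull.exists_tensor_inverse hT
  let e' : CohB1.tensorMod I T ≅ Coh.structureModule X := TMul.commIso I T ≪≫ e
  have hIcls : PicGrp.cls I hI = PicGrp.cls L hL.1 ^ (-(n : ℤ)) := by
    have h1 : PicGrp.cls T hT * PicGrp.cls I hI = 1 := by
      refine Subtype.ext ((PicGrp.cls_mul_cls_val hT hI).trans ?_)
      exact ((PicGrp.cl_eq_cl_iff _ _).2 ⟨e⟩).trans PicGrp.one_val.symm
    have h2 : PicGrp.cls T hT = PicGrp.cls L hL.1 ^ n := Subtype.ext (PicGrp.cls_pow_val hL.1 n).symm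
    rw [h2] at h1
    rw [zpow_neg, zpow_natCast, eq_inv_of_mul_eq_one_right h1]
  have hVδ' : δ k L V = 2 * δ k L (Coh.structureModule X) + 2 * μ k L := by rw [h0, hVδ]; ring
  have hhom : ∀ φ : CohB1.tensorMod V T ⟶ Coh.structureModule X, φ = 0 := by
    intro φ
    have h1 : (W7Slope.untw e V).inv ≫ CohFinite.tmap φ I ≫ (TMul.leftUnitIso I).hom = 0 :=
      hom_eq_zero k hdim hL hgen hst hVr hVδ' hI hIcls (by omega) _
    have h2 : CohFinite.tmap φ I = 0 := by
      rwa [← cancel_mono (TMul.leftUnitIso I).hom, ← cancel_epi (W7Slope.untw e V).inv, Limits.zero_comp, Limits.comp_zero]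
    have h3 := W7Slope.untw_natural e' φ
    rw [h2, CohFinite.tmap_zero, Limits.zero_comp] at h3
    exact ((cancel_epi (W7Slope.untw e' _).hom).1 (h3.symm.trans Limits.comp_zero.symm))
  obtain ⟨s, hs0⟩ := exists_hom k hdim hK3 (RefDiv.isCoh_tensor hV (CurveRR.isCoh_of_inv hT)) hhom he
  let s' : I ⟶ V := (TMul.leftUnitIso I).inv ≫ CohFinite.tmap s I ≫ (W7Slope.untw e V).hom
  have hs'0 : s' ≠ 0 := by
    intro h1
    have h2 : CohFinite.tmap s I = 0 := by
      rwa [← cancel_mono (W7Slope.untw e V).hom, ← cancel_epi (TMul.leftUnitIso I).inv, Limits.zero_comp, Limits.comp_zero]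
    have h3 := W7Slope.untw_natural e' s
    rw [h2, CohFinite.tmap_zero, Limits.zero_comp] at h3
    exact hs0 ((cancel_epi (W7Slope.untw e' _).hom).1 (h3.symm.trans Limits.comp_zero.symm))
  obtain ⟨M, hM, c, hs, hK, i, hcd, hKl, hMl, hi0, hai, -⟩ :=
    exists_saturation k hdim hL hgen hst hVtf hVr hVδ' hI hIcls s' hs'0
  obtain ⟨m, rfl⟩ : ∃ m : ℕ, i = -(m : ℤ) := ⟨(-i).toNat, by omega⟩
  have hmn : m ≤ n := by omega
  haveI : IsIso (RefHull.bidualMap (kernel c)) := isReflexive_kernel k hdim hV hVrefl hM c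
  have hMcl : PicGrp.cls M hM = PicGrp.cls (CohB1.tensorPow L (m + 1)) (TMul.isInvertible_tensorPow hL.1 (m + 1)) := by
    rw [hMl, show (1 : ℤ) - -(m : ℤ) = ((m + 1 : ℕ) : ℤ) by push_cast; ring, zpow_natCast]
    exact Subtype.ext (PicGrp.cls_pow_val hL.1 (m + 1))
  obtain ⟨eM⟩ := (PicGrp.cls_eq_cls_iff hM _).1 hMcl
  obtain ⟨w, hS⟩ := shortExact_image c
  have hMc := CurveRR.isCoh_of_inv hM
  have hIm : Coh.IsCoh (Abelian.image c) := QC.isCoh_kernel hMc (QC.isCoh_cokernel hV.1 hMc c).1 _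
  refine ⟨m, hmn, _, hK, ?_, Abelian.image c, Abelian.image.ι c ≫ eM.hom, mono_comp _ _, hIm, ?_,
    inv (RefHull.bidualMap (kernel c)) ≫ kernel.ι c, Abelian.factorThruImage c,
    by rw [Category.assoc, w, Limits.comp_zero], ?_⟩
  · rw [hKl, zpow_neg, zpow_natCast, inv_mul_cancel]
  · refine le_trans ((Topology.IsEmbedding.inclusion ?_).isInducing.topologicalKrullDim_le) hcd
    intro x hx
    by_contra hx'
    refine CurveRR.notMem_support_coker (Abelian.image.ι c ≫ eM.hom) x (fun v' => ?_) hx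
    obtain ⟨m', hm'⟩ := stalk_surjective eM.hom x v'
    obtain ⟨v, hv⟩ := surjective_of_notMem (Abelian.image.ι c) x hx' m'
    exact ⟨v, (RefDiv.stalkMap_comp _ _ x v).trans ((congrArg _ hv).trans hm')⟩
  · refine ShortComplex.shortExact_of_iso (ShortComplex.isoMk (S₁ := ShortComplex.mk (kernel.ι c) (Abelian.factorThruImage c) w)
      (S₂ := ShortComplex.mk (inv (RefHull.bidualMap (kernel c)) ≫ kernel.ι c) (Abelian.factorThruImage c)
        (by rw [Category.assoc, w, Limits.comp_zero]))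
      (asIso (RefHull.bidualMap (kernel c))) (Iso.refl _) (Iso.refl _) ?_ ?_) hS
    · simp
    · simp

end Groth.Agent.StabK3
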