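import Groth.Agent.StabK3.Mukai
import Groth.Agent.TMul.AmpleBasis
import Groth.Agent.W7Hull.InvDual

/-!
The inverse of the generating curve is ample.
-/

set_option autoImplicit false
set_option backward.isDefEq.respectTransparency false
set_option backward.isDefEq.respectTransparency.types false
set_option linter.style.haveILetI false

universe u

open CategoryTheory CategoryTheory.Limits AlgebraicGeometry TopologicalSpace
open Groth.Agent.Intersect Groth.Agent.StabLib

noncomputable section

namespace Groth.Agent.StabK3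

variable (k : Type u) [Field k] [IsAlgClosed k] {X : Scheme.{u}} [X.Over (Spec (CommRingCat.of k))]
  [IsProper (X ↘ Spec (CommRingCat.of k))] [IsIntegral X] [Smooth (X ↘ Spec (CommRingCat.of k))]

include k in
/-- An ample module exists and the Picard group is generated by the curve, so its inverse is ample. -/
theorem exists_ample_inverse (hdim : topologicalKrullDim X = 2) [PicGrp.Law X]
    (D : X.IdealSheafData) [IsIntegral D.subscheme] (hD1 : topologicalKrullDim (D.support : Set X) = 1)
    (hI : PicF.IsInvertible (ClSub.idealMod D))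
    (hgen : ∀ c : PicLoc.PicSet X, ∃ n : ℤ, c = PicGrp.cls (ClSub.idealMod D) hI ^ n)
    {H : X.Modules} (hH : CohB1.IsAmple H) :
    ∃ L : X.Modules, CohB1.IsAmple L ∧ ClSub.IsInverseOf L (ClSub.idealMod D) := by
  haveI := CurveRR.isNoetherian_of_proper k X
  obtain ⟨L, hLi, ⟨e⟩⟩ := W7Hull.exists_tensor_inverse hI
  refine ⟨L, ?_, ⟨TMul.commIso _ _ ≪≫ e⟩⟩
  obtain ⟨n, hn⟩ := hgen (PicGrp.cls H hH.1)
  have hneg : FGA.intNum k X 2 ![H, ClSub.idealMod D] (Coh.structureModule X) < 0 := by
    rw [SurfAdj.intNum_comm k hdim]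
    exact SurfAdj.deg_ample_pos k hdim D hD1 hH
  have hHH : 0 < FGA.intNum k X 2 ![H, H] (Coh.structureModule X) := by
    have h := Intersect.alt_pos k 2 ![H, H] (fun j => by fin_cases j <;> exact hH) (Coh.structureModule X)
      RefStalk.isCoh_structureModule (by rw [Intersect.dim_support_structure, hdim]; norm_cast)
    rw [← Intersect.intNum_eq_alt k 2 hdim.le] at h
    norm_num at h
    exact h
  rw [intNum_zpow k hdim.le hI H hH.1 n hH.1 hn, SurfAdj.intNum_comm k hdim] at hHH
  have hn0 : n < 0 := by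
    by_contra hc
    nlinarith
  obtain ⟨m, rfl⟩ : ∃ m : ℕ, n = -(m : ℤ) := ⟨(-n).toNat, by omega⟩
  have h1 : PicGrp.cls (ClSub.idealMod D) hI * PicGrp.cls L hLi = 1 := by
    refine Subtype.ext ((PicGrp.cls_mul_cls_val hI hLi).trans ?_)
    exact ((PicGrp.cl_eq_cl_iff _ _).2 ⟨e⟩).trans PicGrp.one_val.symm
  have hc : PicGrp.cls H hH.1 = PicGrp.cls L hLi ^ m := by
    rw [hn, zpow_neg, zpow_natCast, ← inv_pow, inv_eq_of_mul_eq_one_right h1]
  have hval : PicF.cl H = PicF.cl (CohB1.tensorPow L m) :=
    (congrArg Subtype.val hc).trans (PicGrp.cls_pow_val hLi m)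
  obtain ⟨f⟩ := (PicGrp.cl_eq_cl_iff _ _).1 hval
  exact TMul.isAmple_of_tensorPow hLi (n := m) (by omega) (TMul.isAmple_congr f hH)

end Groth.Agent.StabK3
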