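import Groth.Agent.W7Hull.HomAdj
import Groth.Agent.StabLib.Endo
import Groth.Agent.CurveRR.Zero

/-!
A module all whose endomorphisms are scalars has at most one endomorphism section.
-/

set_option autoImplicit false
set_option backward.isDefEq.respectTransparency false
set_option backward.isDefEq.respectTransparency.types false
set_option linter.style.haveILetI false
set_option linter.unusedSectionVars false

universe u

open CategoryTheory AlgebraicGeometry TopologicalSpace Opposite
open Groth.Agent.QC (res res_res res_self res_smul app_res)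
open Groth.Agent.WeakAssLib (mgerm mgerm_smul mgerm_res)

noncomputable section

namespace Groth.Agent.StabK3

variable {X : Scheme.{u}}

/-- The endomorphism of a global section of the endomorphism sheaf. -/
theorem exists_hom_of_section {F : X.Modules} (s : Γ(RefHull.homSh F F, (⊤ : X.Opens))) :
    ∃ φ : F ⟶ F, ∀ (x : X) (v : F.presheaf.stalk x), RefHull.stalkMapₗ φ x v = s.1 ⟨x, trivial⟩ v := by
  let g := TMul.homOf s
  let one : ∀ U : X.Opens, Γ(Coh.structureModule X, U) := fun U => (1 : Γ(X, U))
  have hone : ∀ {U V : X.Opens} (h : V ≤ U), res (Coh.structureModule X) h (one U) = one V := fun {U V} h => (show QC.resO X h (1 : Γ(X, U)) = (1 : Γ(X, V)) from map_one _)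
  let E : ∀ U : X.Opens, Γ(F, U) → Γ(F, U) := fun U a => W7Hull.evBil g U a (one U)
  refine ⟨⟨PresheafOfModules.homMk
    { app := fun U => AddCommGrpCat.ofHom (AddMonoidHom.mk' (E U.unop) fun a b =>
        LinearMap.congr_fun (map_add (W7Hull.evBil g U.unop) a b) _)
      naturality := fun {U V} f => by
        ext a
        have h := (W7Hull.evBil_res g (leOfHom f.unop) a (one U.unop)).symm
        rw [hone] at h
        exact h }
    (fun U r a => LinearMap.congr_fun (map_smul (W7Hull.evBil g U.unop) (show Γ(X, U.unop) from r) a) (one U.unop))⟩, fun x v => ?_⟩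
  obtain ⟨U, hx, a, rfl⟩ := TopCat.Presheaf.exists_germ_eq F.presheaf v
  rw [RefHull.stalkMapₗ_germ]
  show mgerm F hx (W7Hull.ev (g.app U (one U)) a) = _
  rw [W7Hull.germ_ev]
  have h1 : g.app U (one U) = res (RefHull.homSh F F) le_top s := TMul.val_homOf s U
  rw [h1]
  rfl

variable (k : Type u) [Field k] [X.Over (Spec (CommRingCat.of k))]

/-- Scalar endomorphisms: at most one dimension of sections. -/
theorem h0_endSheaf_le {F : X.Modules}
    (hs : ∀ φ : F ⟶ F, ∃ c : k, ∀ (V : X.Opens) (a : F.val.obj (Opposite.op V)), (φ.val.app (Opposite.op V)) a =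
      (X.ringCatSheaf.obj.map (homOfLE (le_top : V ≤ ⊤)).op
        (Coh.toGlobal (X ↘ Spec (CommRingCat.of k)) c : X.ringCatSheaf.obj.obj (Opposite.op ⊤))) • a) :
    CurveRR.h k (RefHull.homSh F F) 0 ≤ 1 := by
  letI := CurveRR.secMod k (RefHull.homSh F F) ⊤
  rw [← CurveRR.finrank_sec]
  have key : ∀ s : Γ(RefHull.homSh F F, (⊤ : X.Opens)), ∃ c : k, ∀ (x : X) (v : F.presheaf.stalk x),
      s.1 ⟨x, trivial⟩ v = (X.presheaf.germ ⊤ x trivial).hom (CurveRR.cst k X ⊤ c) • v := fun s => by
    obtain ⟨φ, hφ⟩ := exists_hom_of_section s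
    obtain ⟨c, hc⟩ := hs φ
    refine ⟨c, fun x v => ?_⟩
    rw [← hφ]
    obtain ⟨U, hx, a, rfl⟩ := TopCat.Presheaf.exists_germ_eq F.presheaf v
    rw [RefHull.stalkMapₗ_germ, show φ.app U a = _ from hc U a]
    refine (mgerm_smul F hx _ a).trans (congrArg (· • _) ?_)
    exact (TopCat.Presheaf.germ_res_apply X.presheaf (homOfLE le_top) x hx _).trans
      (congrArg _ (QC.resO_self (X := X) _ _).symm)
  choose c hc using key
  by_cases hz : ∀ s, c s = 0
  · haveI : Subsingleton Γ(RefHull.homSh F F, (⊤ : X.Opens)) := subsingleton_of_forall_eq 0 fun s =>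
      Subtype.ext (funext fun y => LinearMap.ext fun v => by
        rw [hc s y.1 v, hz s, map_zero, map_zero, zero_smul]
        rfl)
    rw [Module.finrank_zero_of_subsingleton]
    exact zero_le_one
  push Not at hz
  obtain ⟨t, ht⟩ := hz
  refine finrank_le_one t fun s => ⟨c s * (c t)⁻¹, Subtype.ext (funext fun y => LinearMap.ext fun v => ?_)⟩
  show (X.presheaf.germ ⊤ y.1 trivial).hom (CurveRR.cst k X ⊤ (c s * (c t)⁻¹)) • t.1 y v = s.1 y v
  rw [show t.1 y v = _ from hc t y.1 v, show s.1 y v = _ from hc s y.1 v, smul_smul, ← map_mul, ← map_mul,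
    mul_assoc, inv_mul_cancel₀ ht, mul_one]

end Groth.Agent.StabK3
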