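import Groth.Agent.StabK3.Cohom
import Groth.Agent.MumBound.Closed
import Groth.Agent.W7Slope.Basic
import Groth.Agent.ResDesc.Main

/-!
The subsheaf generated by the global sections of a line bundle on the curve.
-/

set_option autoImplicit false
set_option backward.isDefEq.respectTransparency false
set_option backward.isDefEq.respectTransparency.types false
set_option linter.style.haveILetI false
set_option linter.unusedSectionVars false

universe u

open CategoryTheory CategoryTheory.Limits AlgebraicGeometry TopologicalSpace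
open Groth.Agent.Intersect Groth.Agent.StabLib
open Groth.Agent.CohFinite (hhMap)

noncomputable section

namespace Groth.Agent.StabK3

variable (k : Type u) [Field k] [IsAlgClosed k] {X : Scheme.{u}}
  [X.Over (Spec (CommRingCat.of k))] [IsProper (X ↘ Spec (CommRingCat.of k))] [IsIntegral X]

/-- A line bundle with sections contains a globally generated one with the same sections. -/
theorem exists_generated {C : Scheme.{u}} [C.Over (Spec (CommRingCat.of k))] [IsIntegral C]
    [Smooth (C ↘ Spec (CommRingCat.of k))] [IsProper (C ↘ Spec (CommRingCat.of k))]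
    (hdim : topologicalKrullDim X = 2) (hC : topologicalKrullDim C = 1) (i : C ⟶ X) [IsClosedImmersion i]
    (hi : i ≫ (X ↘ Spec (CommRingCat.of k)) = C ↘ Spec (CommRingCat.of k))
    {A : C.Modules} (hA : PicF.IsInvertible A) (h0 : 0 < CurveRR.h k A 0) :
    ∃ (A' : C.Modules) (_ : PicF.IsInvertible A') (lam : FlatMod.freeMod X (CurveRR.h k A 0) ⟶ (Coh.push i).obj A'),
      Epi lam ∧ Function.Bijective (Sheaf.H.map ((SheafOfModules.toSheaf _).map lam) 0) ∧
        CurveRR.h k A 1 ≤ CurveRR.h k A' 1 := by
  classical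
  haveI := CurveRR.isNoetherian_of_proper k X
  haveI := CurveRR.isNoetherian_of_proper k C
  have hX : W7Slope.RegCurve C := W7Slope.regCurve_of_smooth (k := k) hC
  let P := (Scheme.Modules.pushforward i).obj A
  have hAc := CurveRR.isCoh_of_inv hA
  have hP : Coh.IsCoh P := SerrePn.isCoh_push i hAc
  haveI := CohFinite.finite_proper k X _ hP 0
  set n := CurveRR.h k A 0 with hn
  have hPn : CurveRR.h k P 0 = n := h_push k i hi hAc.1 0
  let b := Module.finBasisOfFinrankEq k (Coh.HH X P 0) hPn
  letI := CurveRR.secMod k P ⊤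
  let s : Fin n → Γ(A, (⊤ : C.Opens)) := fun j => (CurveRR.secH0 (k := k) P).symm (b j)
  let ψ : FlatMod.freeMod C n ⟶ A := Sigma.desc fun j => TMul.homOf (s j)
  obtain ⟨I, p, ι, hp, hι, hpι, hI, -, -, hI1, -, hI0⟩ :=
    W7Slope.exists_image k hX (LinSerMap.isFinLocFreeOfRank_freeMod C n) (CurveRR.isFinLocFreeOfRank_one hA) ψ
  let lam := MumBound.pushQuot i p
  -- composite with the inclusion hits the basis
  have hval : ∀ j : Fin n, ∃ a : Coh.HH X (FlatMod.freeMod X n) 0,
      hhMap k (lam ≫ (Scheme.Modules.pushforward i).map ι) 0 a = b j := fun j => by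
    letI := CurveRR.secMod k (FlatMod.freeMod X n) ⊤
    let one : Γ(Coh.structureModule X, (⊤ : X.Opens)) := (1 : Γ(X, ⊤))
    refine ⟨CurveRR.secH0 (k := k) _ ((Sigma.ι (fun _ : Fin n => Coh.structureModule X) j).app ⊤ one), ?_⟩
    rw [CurveRR.hhMap_secH0]
    refine (congrArg (CurveRR.secH0 (k := k) P) ?_).trans ((CurveRR.secH0 (k := k) P).apply_symm_apply (b j))
    have e1 : Sigma.ι (fun _ : Fin n => Coh.structureModule X) j ≫ lam ≫ (Scheme.Modules.pushforward i).map ι =
        MumBound.unitOne i ≫ (Scheme.Modules.pushforward i).map (TMul.homOf (s j)) := by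
      have e0 : Sigma.ι (fun _ : Fin n => Coh.structureModule C) j ≫ p ≫ ι = TMul.homOf (s j) := by
        rw [hpι, Sigma.ι_desc]
      have e2 : Sigma.ι (fun _ : Fin n => Coh.structureModule X) j ≫ lam = MumBound.unitOne i ≫
          (Scheme.Modules.pushforward i).map (Sigma.ι (fun _ : Fin n => Coh.structureModule C) j ≫ p) :=
        Sigma.ι_desc _ _
      rw [← Category.assoc, e2, Category.assoc, ← Functor.map_comp, Category.assoc, e0]
    refine (congrArg (fun f : Coh.structureModule X ⟶ P => f.app ⊤ one) e1).trans ?_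
    show (TMul.homOf (s j)).app (i ⁻¹ᵁ ⊤) ((MumBound.unitOne i).app ⊤ (1 : Γ(X, ⊤))) = _
    rw [MumBound.unitOne_app, map_one]
    exact (TMul.val_homOf (s j) (i ⁻¹ᵁ ⊤)).trans (QC.res_self A _ _)
  have hsurj : Function.Surjective (hhMap k (lam ≫ (Scheme.Modules.pushforward i).map ι) 0) := by
    rw [← LinearMap.range_eq_top, eq_top_iff, ← b.span_eq, Submodule.span_le]
    rintro _ ⟨j, rfl⟩
    exact hval j
  have hψ : ψ ≠ 0 := fun h => by
    haveI : Nontrivial (Coh.HH X P 0) := Module.nontrivial_of_finrank_pos (R := k) (lt_of_lt_of_eq h0 hPn.symm)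
    obtain ⟨y, hy⟩ := exists_ne (0 : Coh.HH X P 0)
    obtain ⟨a, ha⟩ := hsurj y
    have e : lam ≫ (Scheme.Modules.pushforward i).map ι = 0 := by
      show MumBound.pushQuot i p ≫ _ = 0
      rw [← MumBound.pushQuot_comp, Category.assoc, ← Functor.map_comp, hpι, h, Functor.map_zero, comp_zero]
    refine hy (ha.symm.trans ?_)
    rw [e]
    have hz : (0 : FlatMod.freeMod X n ⟶ P) + 0 = 0 := add_zero 0
    have h2 := (congrArg (fun f => Sheaf.H.map ((SheafOfModules.toSheaf _).map f) 0 a) hz).symm.trans
      ((congrArg (fun f => Sheaf.H.map f 0 a) (Functor.map_add _)).trans (Sheaf.H.map_add_apply _ _ _))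
    exact left_eq_add.1 h2
  have hI1' : W7Slope.grk I = 1 := by have := hI0 hψ; omega
  have hIi : PicF.IsInvertible I := ZeroSch.isInvertible_of_rankOne (hI1' ▸ hI)
  haveI : Epi ((Scheme.Modules.pushforward i).map p) :=
    ResDesc.epi_push i (NegFilt.isCoh_freeMod n).1 (TMul.isQCoh_of_isInvertible hIi) p
  haveI := MumBound.epi_pushQuot (Y := X) i n
  have hepi : Epi lam := by
    show Epi (MumBound.pushQuot i p)
    rw [← MumBound.pushQuot_comp]
    infer_instance
  refine ⟨I, hIi, lam, hepi, ?_, ?_⟩
  · haveI := CohFinite.finite_proper k X _ (NegFilt.isCoh_freeMod (X := X) n) 0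
    have hfree : CurveRR.h k (FlatMod.freeMod X n) 0 = n := by
      rw [← CurveRR.h_eq_of_iso (SecTwist.unitorR (FlatMod.freeMod X n)) 0,
        h_free_tensor k RefStalk.isCoh_structureModule, ConnDiv.h0_structure, mul_one]
    have hinj := (LinearMap.injective_iff_surjective_of_finrank_eq_finrank (hfree.trans hPn.symm)).2 hsurj
    have hcomp : ∀ a, hhMap k (lam ≫ (Scheme.Modules.pushforward i).map ι) 0 a =
        hhMap k ((Scheme.Modules.pushforward i).map ι) 0 (hhMap k lam 0 a) := fun a => CohFinite.hhMap_comp k _ _ 0 a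
    haveI : Mono ((Scheme.Modules.pushforward i).map ι) := Functor.map_mono _ _
    have hinjι : Function.Injective (hhMap k ((Scheme.Modules.pushforward i).map ι) 0) :=
      CurveRR.injective_f (S := ShortComplex.mk ((Scheme.Modules.pushforward i).map ι)
        (cokernel.π ((Scheme.Modules.pushforward i).map ι)) (cokernel.condition _))
        { exact := ShortComplex.exact_cokernel _, mono_f := inferInstance, epi_g := inferInstance }
    refine ⟨fun a a' h => hinj ((hcomp a).trans ((congrArg _ h).trans (hcomp a').symm)), fun y => ?_⟩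
    obtain ⟨a, ha⟩ := hsurj (hhMap k ((Scheme.Modules.pushforward i).map ι) 0 y)
    exact ⟨a, hinjι ((hcomp a).symm.trans ha)⟩
  · have hSι : (ShortComplex.mk ι (cokernel.π ι) (cokernel.condition ι)).ShortExact :=
      { exact := ShortComplex.exact_cokernel ι, mono_f := hι, epi_g := inferInstance }
    have hQ : Coh.IsCoh (cokernel ι) := QC.isCoh_cokernel (TMul.isQCoh_of_isInvertible hIi) hAc ι
    have hι0 : ι ≠ 0 := fun h => hψ (by rw [← hpι, h, comp_zero])
    have hsupp : topologicalKrullDim (CohB1.support (cokernel ι)) ≤ ((0 : ℕ) : WithBot ℕ∞) := by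
      rw [Nat.cast_zero]
      exact CurveRR.dim_le_zero_of_closed hC.le (QC.isClosed_support hQ.2)
        (CurveRR.notMem_support_coker ι _ (CurveRR.surjective_stalk_generic hA ι hι0))
    haveI : Subsingleton (Coh.HH C (cokernel ι) 1) := Nakai.subsingleton_of_support_le k 0 hQ hsupp 1 one_pos
    haveI := CohFinite.finite_proper k C _ (CurveRR.isCoh_of_inv hIi) 1
    have hr := CurveRR.range_f_eq_ker_g (k := k) hSι 1
    dsimp only at hr
    have hk : LinearMap.ker (hhMap k (cokernel.π ι) 1) = ⊤ :=
      LinearMap.ker_eq_top.2 (LinearMap.ext fun x => Subsingleton.elim _ _)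
    rw [hk, LinearMap.range_eq_top] at hr
    exact LinearMap.finrank_le_finrank_of_surjective hr

end Groth.Agent.StabK3
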