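import Groth.Agent.StabK3.Curve
import Groth.Agent.StabLib.Simple
import Groth.Agent.CurveRR.Series
import Groth.Agent.S15848

/-!
Lazarsfeld–Mukai bundles on a surface whose Picard group is generated by the curve: slope stability.
-/

set_option autoImplicit false
set_option backward.isDefEq.respectTransparency false
set_option backward.isDefEq.respectTransparency.types false
set_option linter.style.haveILetI false
set_option linter.unusedSectionVars false

universe u

open CategoryTheory CategoryTheory.Limits AlgebraicGeometry TopologicalSpace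
open Groth.Agent.Intersect Groth.Agent.StabLib StabCat

noncomputable section

namespace Groth.Agent.StabK3

variable (k : Type u) [Field k] [IsAlgClosed k] [CharZero k] {X : Scheme.{u}}
  [X.Over (Spec (CommRingCat.of k))]
  [IsProper (X ↘ Spec (CommRingCat.of k))] [IsIntegral X] [Smooth (X ↘ Spec (CommRingCat.of k))]
  (hdim : topologicalKrullDim X = 2)
  {C : Scheme.{u}} [IsIntegral C] (i : C ⟶ X) [IsClosedImmersion i] (hC : topologicalKrullDim C = 1)
  {A : C.Modules} (hA : PicF.IsInvertible A) {e : ℕ}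
  (lam : FlatMod.freeMod X e ⟶ (Coh.push i).obj A) [Epi lam]

include k hdim hC hA

theorem isFinLocFree_kernel : FlatMod.IsFinLocFree (kernel lam) := by
  haveI := CurveRR.isNoetherian_of_proper k X
  haveI : IsLocallyNoetherian C := LocallyOfFiniteType.isLocallyNoetherian i
  exact Groth.Agent.S15848.result k X hdim C i hC A (CurveRR.isCoh_of_inv hA)
    (fun x => by
      haveI := LocFree.free_stalk_of_isFinLocFree (ResDesc.isFinLocFree_of_isInvertible hA) x
      infer_instance)
    _ (RelPCS.isFinLocFree_freeMod e) lam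

theorem isCoh_lm : Coh.IsCoh (kernel lam) := by
  haveI := CurveRR.isNoetherian_of_proper k X
  exact K0Coh.isCoh_of_isFinLocFree (isFinLocFree_kernel k hdim i hC hA lam)

theorem isTorsionFree_lm : TorSh.IsTorsionFree (kernel lam) := fun x => by
  haveI := LocFree.free_stalk_of_isFinLocFree (isFinLocFree_kernel k hdim i hC hA lam) x
  infer_instance

theorem isReflexive_stalk_lm (x : X) :
    Module.IsReflexive (X.presheaf.stalk x) ((kernel lam).presheaf.stalk x) := by
  haveI := CurveRR.isNoetherian_of_proper k X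
  haveI := LocFree.free_stalk_of_isFinLocFree (isFinLocFree_kernel k hdim i hC hA lam) x
  haveI := RegDual.finite_stalk (isCoh_lm k hdim i hC hA lam) x
  infer_instance

theorem isReflexive_lm : RefHull.IsReflexive (kernel lam) := by
  haveI := CurveRR.isNoetherian_of_proper k X
  exact (RefStalk.isReflexive_iff (isCoh_lm k hdim i hC hA lam)).2 (isReflexive_stalk_lm k hdim i hC hA lam)

omit hA in
/-- No global sections. -/
theorem eq_zero_of_section (hlam : Function.Injective (Sheaf.H.map ((SheafOfModules.toSheaf _).map lam) 0))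
    (x : Γ(kernel lam, (⊤ : X.Opens))) : x = 0 := by
  refine QC.app_injective_of_mono (kernel.ι lam) ⊤ ?_
  rw [map_zero]
  have h0 : lam.app ⊤ ((kernel.ι lam).app ⊤ x) = 0 := by
    have h := congrArg (fun f : kernel lam ⟶ (Coh.push i).obj A => f.app ⊤ x) (kernel.condition lam)
    exact h
  letI := CurveRR.secMod k (FlatMod.freeMod X e) ⊤
  letI := CurveRR.secMod k ((Coh.push i).obj A) ⊤
  refine (CurveRR.secH0 (k := k) (FlatMod.freeMod X e)).injective (hlam ?_)
  have e1 := CurveRR.hhMap_secH0 (k := k) lam ((kernel.ι lam).app ⊤ x)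
  have e2 := CurveRR.hhMap_secH0 (k := k) lam 0
  rw [h0, map_zero] at e1
  rw [map_zero, map_zero] at e2
  rw [map_zero]
  exact e1.trans (map_zero (CohFinite.hhMap k lam 0)).symm

variable [PicGrp.Law X] {L : X.Modules} (hL : CohB1.IsAmple L) (hI : PicF.IsInvertible (ClSub.idealMod i.ker))
  (hgen : ∀ c : PicLoc.PicSet X, ∃ n : ℤ, c = PicGrp.cls (ClSub.idealMod i.ker) hI ^ n)
  (hLI : ClSub.IsInverseOf L (ClSub.idealMod i.ker))
  (hK : Canon.IsTopDiff (X ↘ Spec (CommRingCat.of k)) 2 (Coh.structureModule X))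

include hL hI hgen hLI hK

theorem δ_lm : δ k L (kernel lam) =
    -(FGA.intNum k X 2 ![ClSub.idealMod i.ker, ClSub.idealMod i.ker] (Coh.structureModule X) : ℚ) := by
  haveI := CurveRR.isNoetherian_of_proper k X
  haveI : IsLocallyNoetherian C := LocallyOfFiniteType.isLocallyNoetherian i
  have hF := NegFilt.isCoh_freeMod (X := X) e
  have hP : Coh.IsCoh ((Coh.push i).obj A) := SerrePn.isCoh_push i (CurveRR.isCoh_of_inv hA)
  have hS := CurveRR.shortExact_ker lam
  have h := δ_add k hL hS (isCoh_lm k hdim i hC hA lam) hF hP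
  change δ k L (FlatMod.freeMod X e) = δ k L (kernel lam) + δ k L ((Coh.push i).obj A) at h
  rw [δ_freeMod k hdim hL (δ_unit k hdim i hC hL hLI hK), δ_push k hdim i hC hL hLI hA] at h
  linarith

variable (hlam : Function.Injective (Sheaf.H.map ((SheafOfModules.toSheaf _).map lam) 0))

include hlam

/-- Submodules have degree at most minus the self-intersection. -/
theorem δ_sub_le {G : X.Modules} (hG : Coh.IsCoh G) (h0 : ¬ IsZero G) (ι : G ⟶ kernel lam) [Mono ι] :
    δ k L G ≤ -(FGA.intNum k X 2 ![ClSub.idealMod i.ker, ClSub.idealMod i.ker] (Coh.structureModule X) : ℚ) := by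
  haveI := CurveRR.isNoetherian_of_proper k X
  by_contra hlt
  obtain ⟨π, -, -, h3⟩ := P1Split.exists_proj (fun _ : Fin e => Coh.structureModule X)
  obtain ⟨U, hU, s, hs⟩ := exists_section k hdim hL hI hgen (curve_sq_pos k hdim i hC hL hLI) hLI
    (δ_unit k hdim i hC hL hLI hK) e hG (fun j => ι ≫ kernel.ι lam ≫ π j) (fun {Z} g hg => by
      refine (cancel_mono (ι ≫ kernel.ι lam)).1 (Eq.trans ?_ zero_comp.symm)
      rw [← Category.comp_id (g ≫ ι ≫ kernel.ι lam), ← h3, Preadditive.comp_sum]
      refine Finset.sum_eq_zero fun j _ => ?_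
      rw [← Category.assoc, show (g ≫ ι ≫ kernel.ι lam) ≫ π j = 0 from by
        simp only [Category.assoc]; exact hg j, zero_comp]) h0 (not_le.1 hlt)
  have hn := PtPush.isNormal_of_regular (X := X) (fun x => SurfAdj.regular k hdim x)
  have hb := RefStalk.bijective_res_of_isReflexive hn (isCoh_lm k hdim i hC hA lam)
    (isReflexive_stalk_lm k hdim i hC hA lam) (le_top : U ≤ ⊤) fun x _ hxU => by
      have hx : IsClosed ({x} : Set X) :=
        SuppZero.isClosed_of_subset U.2.isClosed_compl hU _ (Set.singleton_subset_iff.2 hxU)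
      exact le_of_eq ((Intersect.dim_stalk_closed k hx).trans hdim).symm
  obtain ⟨t, ht⟩ := hb.2 (ι.app U s)
  rw [eq_zero_of_section k hdim i hC lam hlam t, map_zero] at ht
  exact hs (QC.app_injective_of_mono ι U (ht.symm.trans (map_zero _).symm))

/-- Slope stability. -/
theorem isMuStable_lm : ShStab.IsMuStable k X L (kernel lam) 2 := by
  haveI := CurveRR.isNoetherian_of_proper k X
  have hF := isCoh_lm k hdim i hC hA lam
  have hpos := curve_sq_pos k hdim i hC hL hLI
  have hδ := δ_lm k hdim i hC hA lam hL hI hgen hLI hK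
  have hdim' : topologicalKrullDim X = ((2 : ℕ) : WithBot ℕ∞) := hdim.trans (by norm_cast)
  have hpure := StabLib.isPure_of_isReflexive hdim' hF (isReflexive_lm k hdim i hC hA lam)
  have h0 : ¬ IsZero (kernel lam) := fun hz => by
    rw [δ_zero k hL hF hz] at hδ
    have : (0 : ℚ) < (FGA.intNum k X 2 ![ClSub.idealMod i.ker, ClSub.idealMod i.ker] (Coh.structureModule X) : ℚ) := by
      exact_mod_cast hpos
    linarith
  refine ⟨hF, h0, hpure _ (𝟙 _) inferInstance hF h0, fun G ι hι hG => ?_, ?_⟩
  · by_cases hG0 : IsZero G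
    · rw [StabLib.Sh.isEmpty_support hG0, StabLib.Sh.dim_empty, WithBot.bot_add]
      exact WithBot.bot_ne_coe
    · rw [hpure G ι hι hG hG0]
      exact fun h => by
        have : ((3 : ℕ) : WithBot ℕ∞) = ((2 : ℕ) : WithBot ℕ∞) := by rw [← h]; norm_cast
        norm_cast at this
  intro G ι hι hG pF pE hpF hpE ha1 ha2
  rw [StabLib.Sh.hilb_iff k hL.1 hG] at hpF
  rw [StabLib.Sh.hilb_iff k hL.1 hF] at hpE
  subst hpF hpE
  have hG0 : ¬ IsZero G := fun hz => by
    have hz' := (StabLib.Sh.inv k hL).hp_zero hz hG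
    change StabLib.Sh.hp k L G = 0 at hz'
    rw [StabCat.alpha, hz', Polynomial.coeff_zero, mul_zero] at ha1
    exact lt_irrefl _ ha1
  have hle := δ_sub_le k hdim i hC hA lam hL hI hgen hLI hK hlam hG hG0 ι
  have hpos' : (0 : ℚ) < (FGA.intNum k X 2 ![ClSub.idealMod i.ker, ClSub.idealMod i.ker] (Coh.structureModule X) : ℚ) := by
    exact_mod_cast hpos
  have e1 : ∀ E : X.Modules, StabCat.alpha (2 - 1) (StabLib.Sh.hp k L E) = δ k L E := fun E => by
    rw [StabCat.alpha, δ]; simp
  rw [StabCat.hatSlope, StabCat.hatSlope, e1, e1, hδ, div_lt_div_iff₀ ha1 (ha1.trans ha2)]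
  nlinarith

end Groth.Agent.StabK3
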