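import Groth.Agent.StabK3.RankTwoExt
import Groth.Agent.HypSec.SmoothProj
import Groth.Agent.NegTwist.Connected
import Groth.Agent.Nakai.UnifReg
import Groth.Agent.W7Cube.Pic
import Groth.Agent.Intersect.Snapper

/-!
Slope stability of bundles of rank two without sections after normalisation.
-/

set_option autoImplicit false
set_option linter.unusedSectionVars false
set_option linter.style.haveILetI false
set_option linter.style.longLine false
set_option backward.isDefEq.respectTransparency false
set_option backward.isDefEq.respectTransparency.types false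

universe u

open CategoryTheory CategoryTheory.Limits AlgebraicGeometry TopologicalSpace Polynomial

noncomputable section

namespace Groth.Agent.StabK3

open Groth.Agent.W7Slope (grk grk_add grk_iso)

variable (k : Type u) [Field k] [IsAlgClosed k] {X : Scheme.{u}}

/-- A twist pulled back to an integral closed subscheme has a nonzero section. -/
theorem exists_section_pull_twist [IsIntegral X] {n : ℕ} (i : X ⟶ CohB1.ProjSpace n k) [IsClosedImmersion i]
    [Smooth (i ≫ CohB1.ProjSpace.toSpec n k)] :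
    ∃ s : Coh.structureModule X ⟶ (Scheme.Modules.pullback i).obj (Twist.twistProjSpace n k 1), s ≠ 0 := by
  obtain ⟨s, ⟨x, hx⟩, -⟩ := HypSec.exists_smooth_section i
  have hinv := CohFinite.isInvertible_twist n k 1
  let e : Coh.structureModule X ≅ (Scheme.Modules.pullback i).obj (Coh.structureModule (CohB1.ProjSpace n k)) :=
    (PicLoc.pullbackStructureIso i).symm
  refine ⟨e.hom ≫ (Scheme.Modules.pullback i).map s, fun h0 => ?_⟩
  have hinv' : PicF.IsInvertible ((Scheme.Modules.pullback i).obj (Twist.twistProjSpace n k 1)) :=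
    PicLoc.isInvertible_pullback i hinv
  have hx' : i.base x ∈ CohB1.genLocus (Twist.twistProjSpace n k 1) s := by
    by_contra hc
    refine hx ?_
    rw [← SetLike.mem_coe, NegTwist.coe_support_zeroScheme hinv s]
    exact hc
  have hg : x ∈ CohB1.genLocus ((Scheme.Modules.pullback i).obj (Twist.twistProjSpace n k 1))
      (e.hom ≫ (Scheme.Modules.pullback i).map s) := by
    rw [TMul.genLocus_pullback i hinv s e]
    exact hx'
  rw [h0] at hg
  obtain ⟨U, g, hxU, hgen⟩ := TMul.exists_isGen hinv' x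
  have hu := (TMul.mem_genLocus_iff_isUnit (0 : Coh.structureModule X ⟶ _) hgen (c := 0)
    ((zero_smul _ g).symm) hxU).1 hg
  rw [map_zero] at hu
  exact not_isUnit_zero hu

variable [X.Over (Spec (CommRingCat.of k))]
  [IsProper (X ↘ Spec (CommRingCat.of k))] [IsIntegral X] [Smooth (X ↘ Spec (CommRingCat.of k))]
  (hdim : topologicalKrullDim X = 2) {L : X.Modules} (hL : CohB1.IsAmple L) [PicGrp.Law X]
  (hgen : ∀ c : PicLoc.PicSet X, ∃ n : ℤ, c = PicGrp.cls L hL.1 ^ n)

include k hdim hL hgen

/-- Nonzero maps between invertible modules are injective. -/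
theorem mono_line {A B : X.Modules} (hA : PicF.IsInvertible A) (hB : PicF.IsInvertible B) (t : A ⟶ B) (ht : t ≠ 0) :
    Mono t := by
  haveI := CurveRR.isNoetherian_of_proper k X
  refine Preadditive.mono_of_isZero_kernel _ (by_contra fun hK0 => ?_)
  have hAc := CurveRR.isCoh_of_inv hA
  have hBc := CurveRR.isCoh_of_inv hB
  have hKr := (sub_line k hdim hL hgen (QC.isCoh_kernel hAc hBc.1 t) hA hK0 (kernel.ι t)).1
  obtain ⟨w, hS⟩ := shortExact_image t
  have hI : Coh.IsCoh (Abelian.image t) := QC.isCoh_kernel hBc (QC.isCoh_cokernel hAc.1 hBc t).1 _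
  have hI0 : ¬ IsZero (Abelian.image t) := fun hz => ht (by
    rw [← Abelian.image.fac t, hz.eq_of_tgt (Abelian.factorThruImage t) 0, Limits.zero_comp])
  have hIr := (sub_line k hdim hL hgen hI hB hI0 (Abelian.image.ι t)).1
  have hr := grk_add hS hAc
  change grk A = grk (kernel t) + grk (Abelian.image t) at hr
  rw [grk_line hA, hKr, hIr] at hr
  omega

/-- Powers of the polarisation receive monomorphisms from the structure module. -/
theorem exists_mono_pow (t : Coh.structureModule X ⟶ L) (ht : t ≠ 0) :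
    ∀ j : ℕ, ∃ u : Coh.structureModule X ⟶ CohB1.tensorPow L j, Mono u := by
  intro j
  induction j with
  | zero => exact ⟨𝟙 _, inferInstanceAs (Mono (𝟙 _))⟩
  | succ j ih =>
    obtain ⟨u, hu⟩ := ih
    haveI := mono_line k hdim hL hgen TMul.isInvertible_structureModule hL.1 t ht
    haveI := W7Slope.mono_tmap hL.1 u
    exact ⟨t ≫ (TMul.leftUnitIso L).inv ≫ CohFinite.tmap u L, mono_comp _ _⟩

variable {V N Lc : X.Modules} (hV : Coh.IsCoh V) (hLc : PicF.IsInvertible Lc) {c₁ : ℤ}
  (hc : PicGrp.cls Lc hLc = PicGrp.cls L hL.1 ^ c₁)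
  (ι : N ⟶ Lc) [Mono ι] (hN : Coh.IsCoh N) (hZ : topologicalKrullDim (CohB1.support (cokernel ι)) ≤ 0)
  (a : Coh.structureModule X ⟶ V) (b : V ⟶ N) (w : a ≫ b = 0) (hex : (ShortComplex.mk a b w).ShortExact)

include hV hc hN hZ hex

/-- A reflexive extension of a twisted ideal by the structure module is slope stable when the ideal receives
no maps from the polarisation. -/
theorem isMuStable_of_hom_eq_zero (hc1 : 0 < c₁)
    (hVr : ∀ x : X, Module.IsReflexive (X.presheaf.stalk x) (V.presheaf.stalk x))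
    (t : Coh.structureModule X ⟶ L) (ht : t ≠ 0) (hhom : ∀ φ : L ⟶ N, φ = 0) :
    ShStab.IsMuStable k X L V 2 := by
  haveI := CurveRR.isNoetherian_of_proper k X
  haveI : Mono a := hex.mono_f
  haveI : Epi b := hex.epi_g
  have hO : Coh.IsCoh (Coh.structureModule X) := RefStalk.isCoh_structureModule
  have hVtf : TorSh.IsTorsionFree V := fun x => by
    haveI := hVr x
    exact RefStalk.isTorsionFree_of_isReflexive _
  have hLcc := CurveRR.isCoh_of_inv hLc
  have hN0 : ¬ IsZero N := fun hz => by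
    have hQ : Coh.IsCoh (cokernel ι) := QC.isCoh_cokernel hN.1 hLcc ι
    haveI : Subsingleton (N.presheaf.stalk (genericPoint X)) := not_not.1 fun h => by
      have : genericPoint X ∈ CohB1.support N := h
      rw [StabLib.Sh.isEmpty_support hz] at this
      exact this
    have h := grk_add (S := ShortComplex.mk ι (cokernel.π ι) (cokernel.condition ι))
      { exact := ShortComplex.exact_cokernel ι, mono_f := ‹_›, epi_g := inferInstance } hLcc
    change grk Lc = grk N + grk (cokernel ι) at h
    rw [grk_line hLc, show grk N = 0 from Module.finrank_zero_of_subsingleton, zero_add] at h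
    have h2 := coeff_two k hdim hL hQ
    rw [← h, Nat.cast_one, one_mul, Polynomial.coeff_eq_zero_of_natDegree_lt] at h2
    · exact (μ_pos k hdim hL).ne h2
    · exact lt_of_le_of_lt (StabLib.Sh.natDegree_hp_le k hL.1 hQ (D := 0) (hZ.trans_eq (by norm_cast))) (by norm_num)
  obtain ⟨hNr, hNd, hNδ⟩ := sub_line k hdim hL hgen hN hLc hN0 ι
  rw [(torsion k hdim hL hgen (QC.isCoh_cokernel hN.1 hLcc ι) hNd).2.2 hZ, add_zero, (line k hdim hL hLc c₁ hc).2] at hNδ
  have hVrk : grk V = 2 := by
    have h := grk_add (S := ShortComplex.mk a b w) hex hV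
    change grk V = _ + grk N at h
    rw [h, hNr, grk_structure k hdim hL hgen]
  have hVδ : δ k L V = 2 * δ k L (Coh.structureModule X) + 2 * (c₁ : ℚ) * μ k L := by
    have h := δ_add k hL hex hO hV hN
    change δ k L V = δ k L (Coh.structureModule X) + δ k L N at h
    rw [h, ← hNδ]
    ring
  have hμ := μ_pos k hdim hL
  have hd2 : topologicalKrullDim X = ((2 : ℕ) : WithBot ℕ∞) := hdim.trans (by norm_cast)
  have hpure := isPure_of_isTorsionFree hd2 hV hVtf
  have hV0 : ¬ IsZero V := fun hz => hN0 (IsZero.of_epi b hz)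
  refine ⟨hV, hV0, hpure _ (𝟙 _) inferInstance hV hV0, fun G g hg hG => ?_, ?_⟩
  · by_cases hG0 : IsZero G
    · rw [StabLib.Sh.isEmpty_support hG0, StabLib.Sh.dim_empty, WithBot.bot_add]
      exact WithBot.bot_ne_coe
    · rw [hpure G g hg hG hG0]
      exact fun h => by
        have : ((3 : ℕ) : WithBot ℕ∞) = ((2 : ℕ) : WithBot ℕ∞) := by rw [← h]; norm_cast
        norm_cast at this
  intro G g hg hG pF pE hpF hpE ha1 ha2
  rw [StabLib.Sh.hilb_iff k hL.1 hG] at hpF
  rw [StabLib.Sh.hilb_iff k hL.1 hV] at hpE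
  subst hpF hpE
  have hcG := coeff_two k hdim hL hG
  have hcV := coeff_two k hdim hL hV
  rw [hVrk] at hcV
  have hGr : grk G = 1 := by
    have h1 : (0 : ℚ) < (grk G : ℚ) := by
      rw [StabCat.alpha, hcG] at ha1
      norm_num at ha1
      nlinarith
    have h2 : (grk G : ℚ) < 2 := by
      rw [StabCat.alpha, StabCat.alpha, hcG, hcV] at ha2
      norm_num at ha2
      nlinarith
    have h1' : 0 < grk G := by exact_mod_cast h1
    have h2' : grk G < 2 := by exact_mod_cast h2
    omega
  suffices hδ : δ k L G ≤ δ k L (Coh.structureModule X) by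
    have e1 : ∀ E : X.Modules, StabCat.alpha (2 - 1) (StabLib.Sh.hp k L E) = δ k L E := fun E => by
      rw [StabCat.alpha, δ]; simp
    have hc1' : (1 : ℚ) ≤ (c₁ : ℚ) := by exact_mod_cast hc1
    rw [StabCat.hatSlope, StabCat.hatSlope, e1, e1, hVδ, div_lt_div_iff₀ ha1 (ha1.trans ha2), StabCat.alpha,
      StabCat.alpha, hcG, hcV, hGr]
    norm_num
    nlinarith [mul_le_mul_of_nonneg_left hδ hμ.le, mul_pos (mul_pos hμ hμ) (lt_of_lt_of_le one_pos hc1')]
  obtain ⟨M, c, hgc, hM, hc0, -, -⟩ := split k hdim hV hVtf hVrk hG hGr g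
  have hK : Coh.IsCoh (kernel c) := QC.isCoh_kernel hV (CurveRR.isCoh_of_inv hM).1 c
  have hKrk : grk (kernel c) = 1 := by
    obtain ⟨w', hS⟩ := shortExact_image c
    have hI : Coh.IsCoh (Abelian.image c) :=
      QC.isCoh_kernel (CurveRR.isCoh_of_inv hM) (QC.isCoh_cokernel hV.1 (CurveRR.isCoh_of_inv hM) c).1 _
    have hI0 : ¬ IsZero (Abelian.image c) := fun hz => hc0 (by
      rw [← Abelian.image.fac c, hz.eq_of_tgt (Abelian.factorThruImage c) 0, Limits.zero_comp])
    have hIr := (sub_line k hdim hL hgen hI hM hI0 (Abelian.image.ι c)).1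
    have hr := grk_add hS hV
    change grk V = grk (kernel c) + grk (Abelian.image c) at hr
    omega
  obtain ⟨hKi, -⟩ := hull k hdim hK hKrk
  haveI : IsIso (RefHull.bidualMap (kernel c)) := isReflexive_kernel k hdim hV hVr hM c
  haveI : Mono (kernel.lift c g hgc) := mono_of_mono_fac (kernel.lift_ι c g hgc)
  have hG0 : ¬ IsZero G := fun hz => by
    have h := (StabLib.Sh.inv k hL).hp_zero hz hG
    change StabLib.Sh.hp k L G = 0 at h
    rw [h, Polynomial.coeff_zero, hGr, Nat.cast_one, one_mul] at hcG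
    exact hμ.ne hcG
  obtain ⟨-, hQd, hQδ⟩ := sub_line k hdim hL hgen hG hKi hG0 (kernel.lift c g hgc ≫ RefHull.bidualMap (kernel c))
  have hQ0 := (torsion k hdim hL hgen (QC.isCoh_cokernel hG.1 (CurveRR.isCoh_of_inv hKi)
    (kernel.lift c g hgc ≫ RefHull.bidualMap (kernel c))) hQd).1
  obtain ⟨i, hi⟩ := hgen (PicGrp.cls _ hKi)
  have hl := (line k hdim hL hKi i hi).2
  suffices hi0 : i ≤ 0 by
    have : (i : ℚ) ≤ 0 := by exact_mod_cast hi0
    nlinarith
  by_contra hneg
  push Not at hneg
  obtain ⟨j, rfl⟩ : ∃ j : ℕ, i = (j : ℤ) + 1 := ⟨(i - 1).toNat, by omega⟩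
  obtain ⟨u, hu⟩ := exists_mono_pow k hdim hL hgen t ht j
  haveI := W7Slope.mono_tmap hL.1 u
  have hcl : PicGrp.cls (RefHull.ddual (kernel c)) hKi =
      PicGrp.cls (CohB1.tensorPow L (j + 1)) (TMul.isInvertible_tensorPow hL.1 (j + 1)) := by
    rw [hi, show ((j : ℤ) + 1) = ((j + 1 : ℕ) : ℤ) by push_cast; ring, zpow_natCast]
    exact Subtype.ext (PicGrp.cls_pow_val hL.1 (j + 1))
  obtain ⟨eK⟩ := (PicGrp.cls_eq_cls_iff hKi _).1 hcl
  let v : L ⟶ V := (TMul.leftUnitIso L).inv ≫ CohFinite.tmap u L ≫ eK.inv ≫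
    inv (RefHull.bidualMap (kernel c)) ≫ kernel.ι c
  haveI : Mono v := by dsimp only [v]; infer_instance
  have hvb : v ≫ b = 0 := hhom _
  let v' : L ⟶ Coh.structureModule X := hex.exact.lift v hvb
  haveI : Mono v' := mono_of_mono_fac (hex.exact.lift_f v hvb)
  have hL0 : ¬ IsZero L := fun hz => ht (hz.eq_of_tgt t 0)
  obtain ⟨-, hd1, hδL⟩ := sub_line k hdim hL hgen (CurveRR.isCoh_of_inv hL.1) TMul.isInvertible_structureModule hL0 v'
  have hge := (torsion k hdim hL hgen (QC.isCoh_cokernel (CurveRR.isCoh_of_inv hL.1).1 hO v') hd1).1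
  rw [δ_polarisation k hdim hL hgen] at hδL
  linarith

end Groth.Agent.StabK3

namespace Groth.Agent.StabK3

section Pull

variable (k : Type u) [Field k] {X : Scheme.{u}} [X.Over (Spec (CommRingCat.of k))] [PicGrp.Law X] {n : ℕ}
  (i : X ⟶ CohB1.ProjSpace n k)

/-- The class of any pulled back twist is a power of that of the first one. -/
theorem cls_pull_twist (h1 : PicF.IsInvertible ((Scheme.Modules.pullback i).obj (Twist.twistProjSpace n k 1)))
    (d : ℤ) (hd : PicF.IsInvertible ((Scheme.Modules.pullback i).obj (Twist.twistProjSpace n k d))) :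
    PicGrp.cls _ hd = PicGrp.cls _ h1 ^ d := by
  have hnat : ∀ (m : ℕ) (hm : PicF.IsInvertible ((Scheme.Modules.pullback i).obj (Twist.twistProjSpace n k (m : ℤ)))),
      PicGrp.cls _ hm = PicGrp.cls _ h1 ^ m := fun m hm => by
    obtain ⟨e1⟩ := Intersect.nonempty_twist_pow k n m
    obtain ⟨e2⟩ := TMul.nonempty_pullPowIso i (Twist.twistProjSpace n k 1) m
    exact Subtype.ext (((PicGrp.cl_eq_cl_iff _ _).2 ⟨(Scheme.Modules.pullback i).mapIso e1 ≪≫ e2.symm⟩).trans
      (PicGrp.cls_pow_val h1 m).symm)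
  obtain ⟨m, rfl | rfl⟩ := d.eq_nat_or_neg
  · rw [zpow_natCast]
    exact hnat m hd
  · have hm : PicF.IsInvertible ((Scheme.Modules.pullback i).obj (Twist.twistProjSpace n k (m : ℤ))) :=
      PicLoc.isInvertible_pullback i (CohFinite.isInvertible_twist n k _)
    obtain ⟨e⟩ := RegCx.twist_twist (k := k) (n := n) (-(m : ℤ)) m 0 (by ring)
    obtain ⟨t⟩ := TMul.nonempty_pullTensorIso i (Twist.twistProjSpace n k (-(m : ℤ))) (Twist.twistProjSpace n k (m : ℤ))
    obtain ⟨t₀⟩ := GrT.nonempty_twist_zero_iso (𝒜 := CohB1.polyGrading n k)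
    have h2 : PicGrp.cls _ hd * PicGrp.cls _ hm = 1 := by
      refine Subtype.ext ((PicGrp.cls_mul_cls_val hd hm).trans ?_)
      exact ((PicGrp.cl_eq_cl_iff _ _).2 ⟨t ≪≫ (Scheme.Modules.pullback i).mapIso (e ≪≫ t₀) ≪≫
        PicLoc.pullbackStructureIso i⟩).trans PicGrp.one_val.symm
    rw [hnat m hm] at h2
    rw [zpow_neg, zpow_natCast, eq_inv_of_mul_eq_one_left h2]

end Pull

/-- A finite closed set of a scheme locally of finite type over a field has dimension zero. -/
theorem dim_le_zero_of_finite_set (k : Type u) [Field k] {X : Scheme.{u}} [X.Over (Spec (CommRingCat.of k))]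
    [IsProper (X ↘ Spec (CommRingCat.of k))] {B : Set X} (hB : IsClosed B) (hfin : B.Finite) :
    topologicalKrullDim B ≤ 0 := by
  haveI := CurveRR.isNoetherian_of_proper k X
  haveI : JacobsonSpace X := LocallyOfFiniteType.jacobsonSpace (X ↘ Spec (CommRingCat.of k))
  refine Intersect.dim_le_zero_of_closedPoints hB fun y hy => ?_
  have hsub : closure ({y} : Set X) ⊆ B := closure_minimal (Set.singleton_subset_iff.2 hy) hB
  have hC : IsClosed (closure ({y} : Set X) ∩ closedPoints X) := by
    rw [← Set.biUnion_of_singleton (closure ({y} : Set X) ∩ closedPoints X)]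
    exact Set.Finite.isClosed_biUnion ((hfin.subset hsub).inter_of_left _) fun z hz => mem_closedPoints_iff.1 hz.2
  have h := JacobsonSpace.closure_inter_closedPoints (isClosed_closure (s := ({y} : Set X)))
  rw [hC.closure_eq] at h
  have hy2 : y ∈ closure ({y} : Set X) ∩ closedPoints X := by
    rw [h]
    exact subset_closure rfl
  exact mem_closedPoints_iff.1 hy2.2

end Groth.Agent.StabK3
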