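import Groth.Agent.SurfAdj.Sections
import Groth.Agent.StabLib.ShApps
import Groth.Agent.Intersect.Apps2
import Groth.Agent.PtPush.StrictChi
import Groth.Agent.Devissage.Core

/-!
The degree of coherent sheaves on a surface whose Picard group is generated by a curve class.
-/

set_option autoImplicit false
set_option backward.isDefEq.respectTransparency false
set_option backward.isDefEq.respectTransparency.types false
set_option linter.style.haveILetI false
set_option linter.unusedSectionVars false

universe u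

open CategoryTheory CategoryTheory.Limits AlgebraicGeometry TopologicalSpace
open Groth.Agent.Intersect Groth.Agent.StabLib

noncomputable section

namespace Groth.Agent.StabK3

variable (k : Type u) [Field k] {X : Scheme.{u}} [X.Over (Spec (CommRingCat.of k))]
  [IsProper (X ↘ Spec (CommRingCat.of k))] {L M : X.Modules}

/-- The next-to-top coefficient of the Hilbert polynomial. -/
def δ (L E : X.Modules) : ℚ := (StabLib.Sh.hp k L E).coeff 1

variable (hL : CohB1.IsAmple L) (hM : PicF.IsInvertible M) (e : CohB1.tensorMod L M ≅ Coh.structureModule X)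

include hL in
theorem δ_add {S : ShortComplex X.Modules} (hS : S.ShortExact) (h₁ : Coh.IsCoh S.X₁) (h₂ : Coh.IsCoh S.X₂)
    (h₃ : Coh.IsCoh S.X₃) : δ k L S.X₂ = δ k L S.X₁ + δ k L S.X₃ := by
  have h := (StabLib.Sh.inv k hL).hp_add hS h₁ h₂ h₃
  change StabLib.Sh.hp k L S.X₂ = StabLib.Sh.hp k L S.X₁ + StabLib.Sh.hp k L S.X₃ at h
  rw [δ, h, Polynomial.coeff_add]
  rfl

include hL in
theorem δ_zero {E : X.Modules} (hE : Coh.IsCoh E) (h0 : IsZero E) : δ k L E = 0 := by
  have h := (StabLib.Sh.inv k hL).hp_zero h0 hE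
  change StabLib.Sh.hp k L E = 0 at h
  rw [δ, h, Polynomial.coeff_zero]

include hL hM e

/-- On modules of dimension at most one. -/
theorem δ_eq_intNum (hd : topologicalKrullDim X ≤ (2 : ℕ)) {E : X.Modules} (hE : Coh.IsCoh E)
    (h1 : topologicalKrullDim (CohB1.support E) ≤ (1 : ℕ)) :
    δ k L E = (FGA.intNum k X 2 ![M] E : ℚ) ∧
      δ k L E = (Curv2.euler k X E : ℚ) - Curv2.euler k X (CohB1.tensorMod E M) := by
  have h : δ k L E = alt (χt k E ![M]) := by
    rw [δ, StabLib.Sh.hp_eq_cand k hL.1 hM e hE h1, StabLib.Sh.cand, Polynomial.finsetSum_coeff,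
      Finset.sum_range_succ, Finset.sum_range_one]
    simp only [ascPochhammer_zero, ascPochhammer_one, Polynomial.coeff_smul, Polynomial.coeff_one,
      Polynomial.coeff_X_one, smul_eq_mul]
    norm_num
    congr 2
    funext i; fin_cases i; rfl
  refine ⟨by rw [h, intNum_eq_alt k 2 hd], ?_⟩
  rw [h, show (![M] : Fin 1 → X.Modules) = Fin.cons M ![] from rfl, alt_cons, alt_zero, alt_zero]

/-- The degree of the structure module. -/
theorem δ_structure (hd : topologicalKrullDim X ≤ (2 : ℕ)) :
    δ k L (Coh.structureModule X) = (Curv2.euler k X (Coh.structureModule X) : ℚ) - Curv2.euler k X M +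
      (FGA.intNum k X 2 ![M, M] (Coh.structureModule X) : ℚ) / 2 := by
  haveI := CurveRR.isNoetherian_of_proper k X
  rw [intNum_eq_alt k 2 hd, δ,
    StabLib.Sh.hp_eq_cand k hL.1 hM e RefStalk.isCoh_structureModule
      (D := 2) (by rw [dim_support_structure]; exact hd), StabLib.Sh.cand, Polynomial.finsetSum_coeff,
    Finset.sum_range_succ, Finset.sum_range_succ, Finset.sum_range_one]
  simp only [ascPochhammer_zero, ascPochhammer_succ_right, Polynomial.coeff_smul, Polynomial.coeff_one,
    smul_eq_mul, one_mul, Nat.cast_zero, Nat.cast_one, add_zero]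
  have hXX : ((Polynomial.X : Polynomial ℚ) * (Polynomial.X + 1)).coeff 1 = 1 := by
    rw [mul_add, mul_one, Polynomial.coeff_add, Polynomial.coeff_X_one]; simp
  rw [hXX, Polynomial.coeff_X_one]
  rw [show (fun _ : Fin 1 => M) = Fin.cons M ![] from funext fun i => by fin_cases i; rfl, alt_cons]
  simp only [alt_zero]
  rw [show (fun _ : Fin 2 => M) = ![M, M] from funext fun i => by fin_cases i <;> rfl,
    CurveRR.euler_eq_of_iso (TMul.leftUnitIso M)]
  norm_num

omit hL hM e

section Pic

variable [PicGrp.Law X] (hd : topologicalKrullDim X ≤ (2 : ℕ))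

include hd in
/-- Intersection numbers against a fixed module form a homomorphism on the Picard group. -/
theorem intNum_zpow {I : X.Modules} (hI : PicF.IsInvertible I) (J : X.Modules) (hJ : PicF.IsInvertible J) (n : ℤ) {N : X.Modules} (hN : PicF.IsInvertible N)
    (h : PicGrp.cls J hJ = PicGrp.cls I hI ^ n) :
    FGA.intNum k X 2 ![J, N] (Coh.structureModule X) = n * FGA.intNum k X 2 ![I, N] (Coh.structureModule X) := by
  have hsur : ∀ c : PicLoc.PicSet X, ∃ (A : X.Modules) (hA : PicF.IsInvertible A), PicGrp.cls A hA = c := by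
    rintro ⟨c, A, rfl, hA⟩
    exact ⟨A, hA, rfl⟩
  choose A hA hAc using hsur
  let φ : PicLoc.PicSet X → Multiplicative ℤ := fun c =>
    Multiplicative.ofAdd (FGA.intNum k X 2 ![A c, N] (Coh.structureModule X))
  have hφ : ∀ (B : X.Modules) (hB : PicF.IsInvertible B),
      φ (PicGrp.cls B hB) = Multiplicative.ofAdd (FGA.intNum k X 2 ![B, N] (Coh.structureModule X)) := fun B hB => by
    obtain ⟨i⟩ := (PicGrp.cls_eq_cls_iff (hA _) hB).1 (hAc (PicGrp.cls B hB))
    exact congrArg Multiplicative.ofAdd (PtPush.intNum_congr_left k hd i N)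
  let Φ : PicLoc.PicSet X →* Multiplicative ℤ := MonoidHom.mk' φ fun a b => by
    have hab : a * b = PicGrp.cls (CohB1.tensorMod (A a) (A b)) (TMul.isInvertible_tensorMod (hA a) (hA b)) := by
      conv_lhs => rw [← hAc a, ← hAc b]
      exact Subtype.ext (PicGrp.cls_mul_cls_val _ _)
    rw [hab, hφ]
    show Multiplicative.ofAdd _ = Multiplicative.ofAdd _ * Multiplicative.ofAdd _
    rw [← ofAdd_add, PtPush.intNum_tensor_left k hd _ _ _ (hA a) (hA b) hN]
  have h1 := congrArg Φ h
  rw [map_zpow] at h1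
  change φ _ = φ _ ^ n at h1
  rw [hφ, hφ, ← ofAdd_zsmul, smul_eq_mul] at h1
  exact Multiplicative.ofAdd.injective h1

include hd in
/-- Intersection numbers against the generator itself. -/
theorem intNum_of_cls {I : X.Modules} (hI : PicF.IsInvertible I) (J : X.Modules) (hJ : PicF.IsInvertible J) (n : ℤ)
    (h : PicGrp.cls J hJ = PicGrp.cls I hI ^ n) :
    FGA.intNum k X 2 ![J, I] (Coh.structureModule X) = n * FGA.intNum k X 2 ![I, I] (Coh.structureModule X) :=
  intNum_zpow k hd hI J hJ n hI h

end Pic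

section K3

variable [IsAlgClosed k] [IsIntegral X] [Smooth (X ↘ Spec (CommRingCat.of k))] [PicGrp.Law X]
  (hdim : topologicalKrullDim X = 2)
  {I : X.Modules} (hI : PicF.IsInvertible I) (hgen : ∀ c : PicLoc.PicSet X, ∃ n : ℤ, c = PicGrp.cls I hI ^ n)
  (hII : 0 < FGA.intNum k X 2 ![I, I] (Coh.structureModule X))
  (hLI : ClSub.IsInverseOf L I)

include hdim hI hgen hII hLI hL

/-- A curve has degree at least that of the generator. -/
theorem le_inter_curve (C : X.IdealSheafData) [IsIntegral C.subscheme]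
    (hC1 : topologicalKrullDim (C.support : Set X) = 1) :
    FGA.intNum k X 2 ![I, I] (Coh.structureModule X) ≤
      FGA.intNum k X 2 ![ClSub.idealMod C, I] (Coh.structureModule X) := by
  obtain ⟨e⟩ := hLI
  have hCi := SurfAdj.inv_ideal k hdim C hC1
  obtain ⟨n, hn⟩ := hgen (PicGrp.cls _ hCi)
  rw [intNum_of_cls k hdim.le hI _ hCi n hn]
  have hpos : FGA.intNum k X 2 ![ClSub.idealMod C, L] (Coh.structureModule X) < 0 :=
    SurfAdj.deg_ample_pos k hdim C hC1 hL
  have h2 : (FGA.intNum k X 2 ![ClSub.idealMod C, I] (Coh.structureModule X) : ℚ) =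
      -(FGA.intNum k X 2 ![ClSub.idealMod C, L] (Coh.structureModule X) : ℚ) := by
    rw [SurfAdj.intNum_inter k hdim, SurfAdj.intNum_inter k hdim,
      Nakai.inter_inv_right k hdim.le hL.1 ⟨e⟩ hCi]
  have h3 : 0 < n * FGA.intNum k X 2 ![I, I] (Coh.structureModule X) := by
    rw [← intNum_of_cls k hdim.le hI _ hCi n hn]
    have h4 : FGA.intNum k X 2 ![ClSub.idealMod C, I] (Coh.structureModule X) =
        -FGA.intNum k X 2 ![ClSub.idealMod C, L] (Coh.structureModule X) := by exact_mod_cast h2
    omega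
  have hn0 : 0 < n := pos_of_mul_pos_left h3 hII.le
  nlinarith

/-- A module with one-dimensional support has degree at least that of the generator. -/
theorem le_δ_of_dim_one {T : X.Modules} (hT : Coh.IsCoh T)
    (h1 : topologicalKrullDim (CohB1.support T) = (1 : ℕ)) :
    (FGA.intNum k X 2 ![I, I] (Coh.structureModule X) : ℚ) ≤ δ k L T := by
  obtain ⟨e⟩ := hLI
  haveI := CurveRR.isNoetherian_of_proper k X
  obtain ⟨s, hs⟩ := Intersect.exists_top_finset k hT h1.le
  rw [(δ_eq_intNum k hL hI e hdim.le hT h1.le).1]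
  have hM : ∀ j, PicF.IsInvertible ((![I] : Fin 1 → X.Modules) j) := fun j => by fin_cases j; exact hI
  rw [Intersect.intNum_components k 2 hdim.le hM hT h1.le s (fun ξ => hs ξ), Int.cast_le]
  have hterm : ∀ ξ ∈ s, FGA.intNum k X 2 ![I, I] (Coh.structureModule X) ≤
      ((Module.length (X.presheaf.stalk ξ) (T.presheaf.stalk ξ)).toNat : ℤ) *
        FGA.intNum k X 2 ![I] (ClSub.quotMod (Scheme.IdealSheafData.vanishingIdeal ⟨closure ({ξ} : Set X), isClosed_closure⟩)) := by
    intro ξ hξ
    obtain ⟨hξT, hξd⟩ := (hs ξ).1 hξ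
    let D := Scheme.IdealSheafData.vanishingIdeal (⟨closure ({ξ} : Set X), isClosed_closure⟩ : Closeds X)
    haveI : IsIntegral D.subscheme := Devissage.Zi_isIntegral ξ
    have hD1 : topologicalKrullDim (D.support : Set X) = 1 := by
      rw [Scheme.IdealSheafData.coe_support_vanishingIdeal]
      exact hξd.trans (by norm_cast)
    have hq : FGA.intNum k X 2 ![I] (ClSub.quotMod D) =
        FGA.intNum k X 2 ![ClSub.idealMod D, I] (Coh.structureModule X) := by
      have h := SurfAdj.deg_eq k hdim D hD1 hI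
      have h' : (FGA.intNum k X 2 ![I] (ClSub.quotMod D) : ℚ) =
          (Curv2.euler k X (ClSub.quotMod D) : ℚ) - Curv2.euler k X (CohB1.tensorMod (ClSub.quotMod D) I) := by
        rw [intNum_eq_alt k 2 hdim.le, show (![I] : Fin 1 → X.Modules) = Fin.cons I ![] from rfl, alt_cons,
          alt_zero, alt_zero]
      have h'' : FGA.intNum k X 2 ![I] (ClSub.quotMod D) =
          Curv2.euler k X (ClSub.quotMod D) - Curv2.euler k X (CohB1.tensorMod (ClSub.quotMod D) I) := by
        exact_mod_cast h'
      omega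
    rw [hq]
    have hb := le_inter_curve k hL hdim hI hgen hII ⟨e⟩ D hD1
    have hlen : 1 ≤ ((Module.length (X.presheaf.stalk ξ) (T.presheaf.stalk ξ)).toNat : ℤ) := by
      have hfl := Intersect.isFiniteLength_stalk hT subset_rfl (ξ := ξ) fun y hy hyξ =>
        Intersect.eq_of_mem_top (QC.isClosed_support hT.2) h1.le ⟨hξT, hξd⟩ hy hyξ
      have hne := Module.length_ne_top_iff.2 hfl
      haveI : Nontrivial (T.presheaf.stalk ξ) := not_subsingleton_iff_nontrivial.1 hξT
      have h0 : Module.length (X.presheaf.stalk ξ) (T.presheaf.stalk ξ) ≠ 0 := (Module.length_pos).ne'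
      have : (Module.length (X.presheaf.stalk ξ) (T.presheaf.stalk ξ)).toNat ≠ 0 := by
        simp only [ne_eq, ENat.toNat_eq_zero, not_or]
        exact ⟨h0, hne⟩
      omega
    calc FGA.intNum k X 2 ![I, I] (Coh.structureModule X) = 1 * FGA.intNum k X 2 ![I, I] (Coh.structureModule X) := (one_mul _).symm
      _ ≤ _ := mul_le_mul hlen hb hII.le (by omega)
  obtain ⟨ξ, hξ⟩ : s.Nonempty := by
    by_contra hne
    rw [Finset.not_nonempty_iff_eq_empty] at hne
    have h0 : δ k L T = 0 := by
      rw [(δ_eq_intNum k hL hI e hdim.le hT h1.le).1,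
        Intersect.intNum_components k 2 hdim.le hM hT h1.le s (fun ξ => hs ξ), hne]
      simp
    obtain ⟨hdeg, hpos⟩ := StabLib.Sh.hp_pos_deg k hL hT h1
    rw [StabLib.Pos, Polynomial.leadingCoeff, hdeg] at hpos
    exact hpos.ne' h0
  refine (hterm ξ hξ).trans (Finset.single_le_sum (f := fun η => ((Module.length (X.presheaf.stalk η) (T.presheaf.stalk η)).toNat : ℤ) *
    FGA.intNum k X 2 ![I] (ClSub.quotMod (Scheme.IdealSheafData.vanishingIdeal ⟨closure ({η} : Set X), isClosed_closure⟩))) (fun η hη => hII.le.trans (hterm η hη)) hξ)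

/-- Modules of dimension at most one have nonnegative degree, positive in dimension one. -/
theorem δ_torsion {T : X.Modules} (hT : Coh.IsCoh T) (h1 : topologicalKrullDim (CohB1.support T) ≤ (1 : ℕ)) :
    0 ≤ δ k L T ∧ (δ k L T < (FGA.intNum k X 2 ![I, I] (Coh.structureModule X) : ℚ) →
      topologicalKrullDim (CohB1.support T) ≤ (0 : ℕ)) := by
  by_cases h0 : IsZero T
  · refine ⟨(δ_zero k hL hT h0).ge, fun _ => ?_⟩
    rw [StabLib.Sh.isEmpty_support h0, StabLib.Sh.dim_empty]
    exact bot_le
  obtain ⟨d, hd⟩ := StabLib.Sh.exists_dim k h0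
  rw [hd] at h1
  have hd1 : d ≤ 1 := by exact_mod_cast h1
  interval_cases d
  · refine ⟨?_, fun _ => hd.le⟩
    rw [δ, Polynomial.coeff_eq_zero_of_natDegree_lt]
    rw [(StabLib.Sh.hp_pos_deg k hL hT hd).1]
    exact one_pos
  · have h := le_δ_of_dim_one k hL hdim hI hgen hII hLI hT hd
    exact ⟨le_trans (by exact_mod_cast hII.le) h, fun hlt => absurd h (not_le.2 hlt)⟩

end K3

end Groth.Agent.StabK3
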