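import Groth.Agent.StabK3.Sub
import Groth.Agent.RefDiv.Inv
import Groth.Agent.S16491
import Groth.Agent.W7Hull.InvDual
import Groth.Agent.W7Slope.Basic
import Groth.Agent.Intersect.HilbCoeff
import Groth.Agent.Intersect.ProperPoints

/-!
Modules of rank one on a smooth projective surface whose Picard group is generated by an ample class.
-/

set_option autoImplicit false
set_option linter.unusedSectionVars false
set_option linter.style.haveILetI false
set_option linter.style.longLine false
set_option backward.isDefEq.respectTransparency false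
set_option backward.isDefEq.respectTransparency.types false

universe u

open CategoryTheory CategoryTheory.Limits AlgebraicGeometry TopologicalSpace Polynomial

noncomputable section

namespace Groth.Agent.StabK3

open Groth.Agent.W7Slope (grk grk_add grk_iso)

/-- Coefficients of a quadratic polynomial from those of a shift of it. -/
theorem coeff_of_shift {P Q : ℚ[X]} (hP : P.natDegree ≤ 2) (hQ : Q.natDegree ≤ 2) (p q : ℕ)
    (h : ∀ m : ℕ, P.eval (((m + q : ℕ) : ℚ)) = Q.eval (((m + p : ℕ) : ℚ))) :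
    P.coeff 2 = Q.coeff 2 ∧ P.coeff 1 = Q.coeff 1 + 2 * ((p : ℚ) - q) * Q.coeff 2 := by
  have hev : ∀ (R : ℚ[X]), R.natDegree ≤ 2 → ∀ t : ℚ, R.eval t = R.coeff 0 + R.coeff 1 * t + R.coeff 2 * t ^ 2 := by
    intro R hR t
    rw [Polynomial.eval_eq_sum_range' (n := 3) (by omega)]
    simp [Finset.sum_range_succ]
  have e0 := h 0
  have e1 := h 1
  have e2 := h 2
  rw [hev P hP, hev Q hQ] at e0 e1 e2
  push_cast at e0 e1 e2
  have h2 : P.coeff 2 = Q.coeff 2 := by linear_combination (1 / 2 : ℚ) * (e0 - 2 * e1 + e2)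
  exact ⟨h2, by linear_combination e1 - e0 - (2 * (q : ℚ) + 1) * h2⟩

/-- A linear polynomial that is eventually negative has nonpositive linear coefficient. -/
theorem coeff_one_nonpos {D : ℚ[X]} (hD : D.natDegree ≤ 2) (h2 : D.coeff 2 = 0) {N : ℕ}
    (h : ∀ m : ℕ, N ≤ m → D.eval (m : ℚ) < 0) : D.coeff 1 ≤ 0 := by
  by_contra hc
  push Not at hc
  obtain ⟨m, hm⟩ := exists_nat_gt (max (N : ℚ) (-D.coeff 0 / D.coeff 1))
  have hm1 : N ≤ m := by exact_mod_cast ((le_max_left _ _).trans_lt hm).le
  have hm2 : -D.coeff 0 < m * D.coeff 1 := (div_lt_iff₀ hc).1 ((le_max_right _ _).trans_lt hm)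
  have := h m hm1
  rw [Polynomial.eval_eq_sum_range' (n := 3) (by omega)] at this
  simp [Finset.sum_range_succ, h2] at this
  linarith

variable (k : Type u) [Field k] [IsAlgClosed k] {X : Scheme.{u}} [X.Over (Spec (CommRingCat.of k))]
  [IsProper (X ↘ Spec (CommRingCat.of k))] [IsIntegral X] [Smooth (X ↘ Spec (CommRingCat.of k))]
  (hdim : topologicalKrullDim X = 2)

section Surface

include k hdim

theorem dim_le : topologicalKrullDim X ≤ ((2 : ℕ) : WithBot ℕ∞) := hdim.le.trans (by norm_cast)

theorem normal : Pi1.IsNormalScheme X :=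
  PtPush.isNormal_of_regular (X := X) fun x => SurfAdj.regular k hdim x

theorem two_le_dim_of_closed {x : X} (hx : IsClosed ({x} : Set X)) :
    (2 : WithBot ℕ∞) ≤ ringKrullDim (X.presheaf.stalk x) :=
  le_of_eq ((Intersect.dim_stalk_closed k hx).trans hdim).symm

/-- At a point that is not closed the local ring has dimension at most one. -/
theorem dim_stalk_le_one {x : X} (hx : ¬ IsClosed ({x} : Set X)) :
    ringKrullDim (X.presheaf.stalk x) ≤ 1 := by
  haveI := CurveRR.isNoetherian_of_proper k X
  obtain ⟨P, hP, hPc⟩ := (isClosed_closure (s := ({x} : Set X))).exists_closed_singleton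
    ⟨x, subset_closure rfl⟩
  letI := specializationOrder X
  have hxP : x ⤳ P := specializes_iff_mem_closure.2 hP
  have hne : P ≠ x := fun h => hx (h ▸ hPc)
  have hlt : P < x := lt_of_le_not_ge hxP fun h => hne ((show P ⤳ x from h).antisymm hxP).eq
  have h2 := (Intersect.dim_stalk_closed k hPc).trans hdim
  rw [ringKrullDim_stalk_eq_coheight] at h2 ⊢
  have h3 : Order.coheight x + 1 ≤ Order.coheight P := Order.coheight_add_one_le hlt
  have h2' : Order.coheight P = (2 : ℕ∞) := WithBot.coe_inj.1 h2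
  rw [h2', show (2 : ℕ∞) = 1 + 1 from rfl] at h3
  exact WithBot.coe_le_coe.2 ((ENat.add_le_add_iff_right ENat.one_ne_top).1 h3)

/-- A closed set all of whose points at which the local ring has small dimension are absent is finite. -/
theorem dim_le_zero {B : Set X} (hB : IsClosed B)
    (h : ∀ x : X, ringKrullDim (X.presheaf.stalk x) ≤ 1 → x ∉ B) : topologicalKrullDim B ≤ 0 := by
  haveI := CurveRR.isNoetherian_of_proper k X
  exact Intersect.dim_le_zero_of_closedPoints hB fun y hy => by
    by_contra hc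
    exact h y (dim_stalk_le_one k hdim hc) hy

/-- A map of reflexive modules that is bijective outside a finite set is an isomorphism. -/
theorem isIso_off_finite {F G : X.Modules} (φ : F ⟶ G) (hF : Coh.IsCoh F) (hG : Coh.IsCoh G)
    (rF : ∀ x : X, Module.IsReflexive (X.presheaf.stalk x) (F.presheaf.stalk x))
    (rG : ∀ x : X, Module.IsReflexive (X.presheaf.stalk x) (G.presheaf.stalk x))
    (B : Set X) (hB : IsClosed B) (hBd : topologicalKrullDim B ≤ 0)
    (hbij : ∀ x ∉ B, Function.Bijective (RefHull.stalkMapₗ φ x)) : IsIso φ := by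
  haveI := CurveRR.isNoetherian_of_proper k X
  have hcl : ∀ x ∈ B, IsClosed ({x} : Set X) := fun x hx =>
    SuppZero.isClosed_of_subset hB (hBd.trans_eq (by norm_cast)) _ (Set.singleton_subset_iff.2 hx)
  have hd : ∀ x ∈ B, (2 : ℕ∞) ≤ LocCoh.depth (X.presheaf.stalk x) (X.presheaf.stalk x) := fun x hx =>
    RefStalk.two_le_depth (normal k hdim) x (two_le_dim_of_closed k hdim (hcl x hx))
  refine RefStalk.isIso_of_depth φ hF hG ⟨Bᶜ, hB.isOpen_compl⟩ hbij (fun x hx => ?_) fun x hx => ?_
  · exact RefStalk.two_le_depth_of_isReflexiveAt hF x (rF x) (hd x (not_not.1 hx))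
  · exact RefStalk.two_le_depth_of_isReflexiveAt hG x (rG x) (hd x (not_not.1 hx))

/-- The double dual of a rank one module is invertible and agrees with it in codimension one. -/
theorem hull {W : X.Modules} (hW : Coh.IsCoh W) (h1 : grk W = 1) :
    PicF.IsInvertible (RefHull.ddual W) ∧
      ∀ x : X, ringKrullDim (X.presheaf.stalk x) ≤ 1 →
        Function.Surjective (RefHull.stalkMapₗ (RefHull.bidualMap W) x) := by
  haveI := CurveRR.isNoetherian_of_proper k X
  refine ⟨?_, fun x hx => ?_⟩
  · have hd : Coh.IsCoh (RefHull.ddual W) :=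
      RefStalk.isCoh_homSh (RefStalk.isCoh_homSh hW RefStalk.isCoh_structureModule) RefStalk.isCoh_structureModule
    have hl : RefDiv.Lat (RefHull.ddual W) := by
      refine ⟨hd, fun x => ?_, ?_⟩
      · haveI := RefStalk.isReflexiveAt_ddual hW x
        exact RefStalk.isTorsionFree_of_isReflexive _
      · letI : Field (X.presheaf.stalk (genericPoint X)) := inferInstanceAs (Field X.functionField)
        let e := LinearEquiv.ofBijective _ (RefDiv.bijective_bidual_generic hW)
        obtain ⟨v, hv, hspan⟩ := finrank_eq_one_iff'.1 (e.finrank_eq.symm.trans h1)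
        exact ⟨v, hv, hspan⟩
    have hr := hl.isRef1 fun x => RefStalk.isReflexiveAt_ddual hW x
    exact Groth.Agent.S16491.result X (fun x => SurfAdj.regular k hdim x) _ hd hr.2.1 hr.2.2
  · haveI := SurfAdj.regular k hdim x
    haveI := W7Slope.isPrincipalIdealRing_of_regular hx
    exact RefStalk.surjective_stalkMap_bidualMap hW x

end Surface

variable {L : X.Modules} (hL : CohB1.IsAmple L)

/-- The leading coefficient of the Hilbert polynomial of the structure module. -/
abbrev μ (L : X.Modules) : ℚ := (StabLib.Sh.hp k L (Coh.structureModule X)).coeff 2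

include k hdim hL

theorem natDegree_hp {E : X.Modules} (hE : Coh.IsCoh E) : (StabLib.Sh.hp k L E).natDegree ≤ 2 :=
  StabLib.Sh.natDegree_hp_le k hL.1 hE (Intersect.dim_le_of_le (dim_le k hdim))

theorem μ_pos : 0 < μ k L := by
  haveI := CurveRR.isNoetherian_of_proper k X
  obtain ⟨hdeg, hpos⟩ := StabLib.Sh.hp_pos_deg k hL (RefStalk.isCoh_structureModule (X := X)) (d := 2)
    (by rw [Intersect.dim_support_structure, hdim]; norm_cast)
  rw [StabLib.Pos, Polynomial.leadingCoeff, hdeg] at hpos
  exact hpos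

/-- Twice the leading coefficient is an intersection number. -/
theorem two_coeff_two {I : X.Modules} (hI : PicF.IsInvertible I)
    (e : CohB1.tensorMod L I ≅ Coh.structureModule X) {E : X.Modules} (hE : Coh.IsCoh E) :
    2 * (StabLib.Sh.hp k L E).coeff 2 = (FGA.intNum k X 2 ![I, I] E : ℚ) := by
  have h := StabLib.Sh.alpha_cand (k := k) I E 2
  rw [← StabLib.Sh.hp_eq_cand k hL.1 hI e hE (Intersect.dim_le_of_le (dim_le k hdim)), StabCat.alpha] at h
  rw [Intersect.intNum_eq_alt k 2 (dim_le k hdim)]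
  rw [show (fun _ : Fin 2 => I) = ![I, I] from funext fun i => by fin_cases i <;> rfl] at h
  simpa using h

/-- The leading coefficient is the generic rank times that of the structure module. -/
theorem coeff_two {E : X.Modules} (hE : Coh.IsCoh E) :
    (StabLib.Sh.hp k L E).coeff 2 = grk E * μ k L := by
  classical
  haveI := CurveRR.isNoetherian_of_proper k X
  obtain ⟨I, hI, ⟨e⟩⟩ := W7Hull.exists_tensor_inverse hL.1
  let η := genericPoint X
  let c := FGA.intNum k X 2 ![I, I]
    (ClSub.quotMod (Scheme.IdealSheafData.vanishingIdeal ⟨closure ({η} : Set X), isClosed_closure⟩))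
  letI : Field (X.presheaf.stalk η) := inferInstanceAs (Field X.functionField)
  have key : ∀ F : X.Modules, Coh.IsCoh F → FGA.intNum k X 2 ![I, I] F = (grk F : ℤ) * c := by
    intro F hF
    have hIs : ∀ j, PicF.IsInvertible ((![I, I] : Fin 2 → X.Modules) j) := fun j => by fin_cases j <;> exact hI
    have hcl : closure ({η} : Set X) = Set.univ := genericPoint_spec X
    have hηd : topologicalKrullDim ↥(closure ({η} : Set X)) = ((2 : ℕ) : WithBot ℕ∞) := by
      rw [hcl, (Homeomorph.Set.univ X).isHomeomorph.topologicalKrullDim_eq, hdim]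
      norm_cast
    have hs : ∀ ξ : X, ξ ∈ (({η} : Finset X).filter (· ∈ CohB1.support F)) ↔
        ξ ∈ CohB1.support F ∧ topologicalKrullDim ↥(closure ({ξ} : Set X)) = ((2 : ℕ) : WithBot ℕ∞) := by
      intro ξ
      simp only [Finset.mem_filter, Finset.mem_singleton]
      refine ⟨fun h => ⟨h.2, h.1 ▸ hηd⟩, fun h => ⟨?_, h.1⟩⟩
      exact (Intersect.eq_of_dim (d := 2) ((genericPoint_spec X).specializes (Set.mem_univ ξ))
        (hηd.le) h.2).symm
    rw [Intersect.intNum_components k 2 (dim_le k hdim) hIs hF (Intersect.dim_le_of_le (dim_le k hdim)) _ hs]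
    haveI := RegDual.finite_stalk hF η
    by_cases hη : η ∈ CohB1.support F
    · rw [Finset.filter_singleton, if_pos hη, Finset.sum_singleton, Module.length_eq_finrank]
      rfl
    · haveI : Subsingleton (F.presheaf.stalk η) := not_not.1 hη
      rw [Finset.filter_singleton, if_neg hη, Finset.sum_empty, show grk F = 0 from Module.finrank_zero_of_subsingleton]
      simp
  have hO : (grk (Coh.structureModule X) : ℤ) = 1 := by
    obtain ⟨E₀, -⟩ := RefStalk.exists_structStalk (X := X) η
    exact_mod_cast E₀.finrank_eq.symm.trans (Module.finrank_self _)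
  have h1 := two_coeff_two k hdim hL hI e hE
  have h2 := two_coeff_two k hdim hL hI e (RefStalk.isCoh_structureModule (X := X))
  rw [key E hE] at h1
  rw [key _ RefStalk.isCoh_structureModule, hO, one_mul] at h2
  push_cast at h1
  unfold μ
  linear_combination (1 / 2 : ℚ) * h1 - (grk E : ℚ) / 2 * h2

section Pic

variable [PicGrp.Law X]

/-- Modules in the class of a power of the polarisation. -/
theorem line {J : X.Modules} (hJ : PicF.IsInvertible J) (j : ℤ)
    (h : PicGrp.cls J hJ = PicGrp.cls L hL.1 ^ j) :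
    (StabLib.Sh.hp k L J).coeff 2 = μ k L ∧
      δ k L J = δ k L (Coh.structureModule X) + 2 * (j : ℚ) * μ k L := by
  haveI := CurveRR.isNoetherian_of_proper k X
  have hJc := CurveRR.isCoh_of_inv hJ
  have hO : Coh.IsCoh (Coh.structureModule X) := RefStalk.isCoh_structureModule
  obtain ⟨p, q, rfl⟩ : ∃ p q : ℕ, j = (p : ℤ) - q := ⟨j.toNat, (-j).toNat, (Int.toNat_sub_toNat_neg j).symm⟩
  have hpw : ∀ n : ℕ, PicGrp.cls (CohB1.tensorPow L n) (TMul.isInvertible_tensorPow hL.1 n) = PicGrp.cls L hL.1 ^ n :=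
    fun n => Subtype.ext (PicGrp.cls_pow_val hL.1 n).symm
  have key : ∀ m : ℕ, (StabLib.Sh.hp k L J).eval (((m + q : ℕ) : ℚ)) =
      (StabLib.Sh.hp k L (Coh.structureModule X)).eval (((m + p : ℕ) : ℚ)) := by
    intro m
    rw [← StabLib.Sh.isHilbPoly_hp k hL.1 hJc (m + q), ← StabLib.Sh.isHilbPoly_hp k hL.1 hO (m + p)]
    have hT := TMul.isInvertible_tensorPow hL.1 (m + q)
    have hcl : PicF.cl (CohB1.tensorMod J (CohB1.tensorPow L (m + q))) = PicF.cl (CohB1.tensorPow L (m + p)) := by
      rw [← PicGrp.cls_mul_cls_val hJ hT, ← PicGrp.cls_pow_val hL.1 (m + p), hpw, h, ← zpow_natCast,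
        ← zpow_natCast, ← zpow_add]
      congr 2
      push_cast
      ring
    obtain ⟨i⟩ := (PicGrp.cl_eq_cl_iff _ _).1 hcl
    rw [ShStab.twist, ShStab.twist, CurveRR.euler_eq_of_iso i,
      CurveRR.euler_eq_of_iso (TMul.leftUnitIso (CohB1.tensorPow L (m + p)))]
  obtain ⟨h2, h1⟩ := coeff_of_shift (natDegree_hp k hdim hL hJc) (natDegree_hp k hdim hL hO) p q key
  refine ⟨h2, ?_⟩
  unfold δ μ
  rw [h1]
  push_cast
  ring

variable (hgen : ∀ c : PicLoc.PicSet X, ∃ n : ℤ, c = PicGrp.cls L hL.1 ^ n)

include hgen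

/-- Modules with support of dimension at most one. -/
theorem torsion {T : X.Modules} (hT : Coh.IsCoh T) (h1 : topologicalKrullDim (CohB1.support T) ≤ ((1 : ℕ) : WithBot ℕ∞)) :
    0 ≤ δ k L T ∧ (δ k L T < 2 * μ k L → topologicalKrullDim (CohB1.support T) ≤ 0) ∧
      (topologicalKrullDim (CohB1.support T) ≤ 0 → δ k L T = 0) := by
  haveI := CurveRR.isNoetherian_of_proper k X
  obtain ⟨I, hI, ⟨e⟩⟩ := W7Hull.exists_tensor_inverse hL.1
  have hc : PicGrp.cls L hL.1 * PicGrp.cls I hI = 1 := by
    refine Subtype.ext ((PicGrp.cls_mul_cls_val hL.1 hI).trans ?_)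
    exact ((PicGrp.cl_eq_cl_iff _ _).2 ⟨e⟩).trans PicGrp.one_val.symm
  have hgI : ∀ c : PicLoc.PicSet X, ∃ n : ℤ, c = PicGrp.cls I hI ^ n := fun c => by
    obtain ⟨n, rfl⟩ := hgen c
    exact ⟨-n, by rw [zpow_neg, ← inv_zpow, inv_eq_of_mul_eq_one_left hc]⟩
  have hII := two_coeff_two k hdim hL hI e (RefStalk.isCoh_structureModule (X := X))
  have hpos : 0 < FGA.intNum k X 2 ![I, I] (Coh.structureModule X) := by
    have hμ := μ_pos k hdim hL
    have : (0 : ℚ) < (FGA.intNum k X 2 ![I, I] (Coh.structureModule X) : ℚ) := by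
      rw [← hII]
      unfold μ at hμ
      linarith
    exact_mod_cast this
  have h := δ_torsion k hL hdim hI hgI hpos ⟨e⟩ hT h1
  refine ⟨h.1, fun hlt => (h.2 (lt_of_lt_of_eq hlt hII)).trans_eq (by norm_cast), fun h0 => ?_⟩
  rw [δ, Polynomial.coeff_eq_zero_of_natDegree_lt]
  exact Nat.lt_succ_of_le (StabLib.Sh.natDegree_hp_le k hL.1 hT (D := 0) (h0.trans_eq (by norm_cast)))

/-- A nonzero submodule of an invertible module. -/
theorem sub_line {G M : X.Modules} (hG : Coh.IsCoh G) (hM : PicF.IsInvertible M) (h0 : ¬ IsZero G)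
    (f : G ⟶ M) [Mono f] :
    grk G = 1 ∧ topologicalKrullDim (CohB1.support (cokernel f)) ≤ ((1 : ℕ) : WithBot ℕ∞) ∧
      δ k L M = δ k L G + δ k L (cokernel f) := by
  haveI := CurveRR.isNoetherian_of_proper k X
  have hMc := CurveRR.isCoh_of_inv hM
  have hQ : Coh.IsCoh (cokernel f) := QC.isCoh_cokernel hG.1 hMc f
  have hsur := CurveRR.surjective_stalk_generic hM f fun h => h0 (IsZero.of_mono_eq_zero f h)
  have hη : genericPoint X ∉ CohB1.support (cokernel f) := CurveRR.notMem_support_coker f _ hsur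
  refine ⟨?_, ?_, ?_⟩
  · obtain ⟨W, e, hW, he⟩ := TMul.exists_isGen hM (genericPoint X)
    let e₁ := LinearEquiv.ofBijective (LinearMap.toSpanSingleton _ _ (WeakAssLib.mgerm M hW e))
      (RefDiv.bijective_germ_of_isGen he hW)
    let e₂ := LinearEquiv.ofBijective (RefHull.stalkMapₗ f (genericPoint X))
      ⟨WeakAssLib.stalkHom_injective f _, hsur⟩
    exact (e₂.trans e₁.symm).finrank_eq.trans (Module.finrank_self _)
  · have hne : CohB1.support (cokernel f) ≠ Set.univ := fun h => hη (h ▸ Set.mem_univ _)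
    exact le_of_lt_succ' (FreeJ.dim_lt_of_proper (n := 2) (hdim.trans_lt (by norm_cast)) _ (QC.isClosed_support hQ.2) hne)
  · exact δ_add k hL (S := ShortComplex.mk f (cokernel.π f) (cokernel.condition f))
      { exact := ShortComplex.exact_cokernel f, mono_f := ‹_›, epi_g := inferInstance } hG hMc hQ

end Pic

end Groth.Agent.StabK3
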