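import Groth.Agent.StabK3.RankTwo
import Groth.Agent.StabK3.Dual
import Groth.Agent.CohQC.QuasiAffine
import Groth.Agent.W7Slope.Twist
import Groth.Agent.W7Slope.DualDeg
import Groth.Agent.DualGeneric.SubB

/-!
Saturations, sections and homomorphisms for stable modules of rank two.
-/

set_option autoImplicit false
set_option linter.unusedSectionVars false
set_option linter.style.haveILetI false
set_option linter.style.longLine false
set_option backward.isDefEq.respectTransparency false
set_option backward.isDefEq.respectTransparency.types false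

universe u

open CategoryTheory CategoryTheory.Limits AlgebraicGeometry TopologicalSpace Polynomial

noncomputable section

namespace Groth.Agent.StabK3

open Groth.Agent.W7Slope (grk grk_add grk_iso)

/-- The sequence kernel, module, image is short exact. -/
theorem shortExact_image {X : Scheme.{u}} {A B : X.Modules} (c : A ⟶ B) :
    ∃ w : kernel.ι c ≫ Abelian.factorThruImage c = 0,
      (ShortComplex.mk (kernel.ι c) (Abelian.factorThruImage c) w).ShortExact :=
  ⟨(cancel_mono (Abelian.image.ι c)).1 (by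
      rw [Category.assoc, Abelian.image.fac, kernel.condition, Limits.zero_comp]),
    { exact := ShortComplex.exact_of_f_is_kernel _ (KernelFork.IsLimit.ofι' _ _ fun {Z} h hh =>
        ⟨kernel.lift _ h (by rw [← Abelian.image.fac c, ← Category.assoc, hh, Limits.zero_comp]),
          kernel.lift_ι _ _ _⟩) }⟩

/-- Invertible modules have rank one. -/
theorem grk_line {X : Scheme.{u}} [IsIntegral X] {J : X.Modules} (hJ : PicF.IsInvertible J) : grk J = 1 := by
  obtain ⟨W, e, hW, he⟩ := TMul.exists_isGen hJ (genericPoint X)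
  let e₁ := LinearEquiv.ofBijective (LinearMap.toSpanSingleton _ _ (WeakAssLib.mgerm J hW e))
    (RefDiv.bijective_germ_of_isGen he hW)
  exact e₁.symm.finrank_eq.trans (Module.finrank_self _)

/-- Epimorphisms are surjective on stalks. -/
theorem stalk_surjective {X : Scheme.{u}} {A B : X.Modules} (φ : A ⟶ B) [Epi φ] (x : X) :
    Function.Surjective (WeakAssLib.stalkHom φ x) := fun v => by
  obtain ⟨u, hu⟩ := (ModuleCat.epi_iff_surjective _).1 (inferInstance : Epi ((DerSch.stalkFunctor X x).map φ)) v
  exact ⟨u, hu⟩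

variable (k : Type u) [Field k] [IsAlgClosed k] {X : Scheme.{u}} [X.Over (Spec (CommRingCat.of k))]
  [IsProper (X ↘ Spec (CommRingCat.of k))] [IsIntegral X] [Smooth (X ↘ Spec (CommRingCat.of k))]
  (hdim : topologicalKrullDim X = 2)

section Hull

include k hdim

/-- The data of saturating a map to a torsion-free module of rank two. -/
theorem split {A V : X.Modules} (hV : Coh.IsCoh V) (hVtf : TorSh.IsTorsionFree V) (hVr : grk V = 2)
    (hAc : Coh.IsCoh A) (hAr : grk A = 1) (s : A ⟶ V) [Mono s] :
    ∃ (M : X.Modules) (c : V ⟶ M) (hs : s ≫ c = 0), PicF.IsInvertible M ∧ c ≠ 0 ∧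
      topologicalKrullDim (CohB1.support (cokernel (Abelian.image.ι c))) ≤ 0 ∧
      (grk (kernel c) = 1 → Mono (RefHull.bidualMap (kernel c))) := by
  haveI := CurveRR.isNoetherian_of_proper k X
  have hW : Coh.IsCoh (cokernel s) := QC.isCoh_cokernel hAc.1 hV s
  have hWr : grk (cokernel s) = 1 := by
    have h := grk_add (S := ShortComplex.mk s (cokernel.π s) (cokernel.condition s))
      { exact := ShortComplex.exact_cokernel s, mono_f := ‹_›, epi_g := inferInstance } hV
    change grk V = grk A + grk (cokernel s) at h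
    rw [hVr, hAr] at h
    omega
  obtain ⟨hM, hsur⟩ := hull k hdim hW hWr
  have hMc := CurveRR.isCoh_of_inv hM
  let c : V ⟶ RefHull.ddual (cokernel s) := cokernel.π s ≫ RefHull.bidualMap (cokernel s)
  have hcs : ∀ x, ringKrullDim (X.presheaf.stalk x) ≤ 1 → Function.Surjective (WeakAssLib.stalkHom c x) :=
    fun x hx m => by
      obtain ⟨v', hv'⟩ := hsur x hx m
      obtain ⟨v, rfl⟩ := stalk_surjective (cokernel.π s) x v'
      exact ⟨v, (RefDiv.stalkMap_comp _ _ x v).trans hv'⟩
  have hη : ringKrullDim (X.presheaf.stalk (genericPoint X)) ≤ 1 := by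
    rw [ringKrullDim_stalk_eq_coheight, RefDiv.coheight_genericPoint]
    exact WithBot.coe_le_coe.2 zero_le_one
  refine ⟨_, c, by rw [← Category.assoc, cokernel.condition, Limits.zero_comp], hM, fun hc => ?_, ?_, fun _ => ?_⟩
  · have hMr : Subsingleton ((RefHull.ddual (cokernel s)).presheaf.stalk (genericPoint X)) := by
      refine subsingleton_of_forall_eq 0 fun m => ?_
      obtain ⟨v, rfl⟩ := hcs _ hη m
      rw [hc]
      exact W7Hull.st_zero _ v
    have h1 := grk_line hM
    rw [grk, Module.finrank_zero_of_subsingleton] at h1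
    exact zero_ne_one h1
  · have hI : Coh.IsCoh (Abelian.image c) := QC.isCoh_kernel hMc (QC.isCoh_cokernel hV.1 hMc c).1 _
    refine dim_le_zero k hdim (QC.isClosed_support (QC.isCoh_cokernel hI.1 hMc (Abelian.image.ι c)).2) fun x hx =>
      CurveRR.notMem_support_coker _ x fun m => ?_
    obtain ⟨v, rfl⟩ := hcs x hx m
    exact ⟨WeakAssLib.stalkHom (Abelian.factorThruImage c) x v,
      (RefDiv.stalkMap_comp _ _ x v).symm.trans (by rw [Abelian.image.fac]; rfl)⟩
  · have hK : Coh.IsCoh (kernel c) := QC.isCoh_kernel hV hMc.1 c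
    refine W7Hull.mono_of_stalk fun x => (injective_iff_map_eq_zero _).2 fun v hv => ?_
    haveI := hVtf x
    have hgen0 : RefStalk.msp (kernel c) (RefStalk.toGen x) v = 0 := by
      refine (RefDiv.bijective_bidual_generic hK).1 ?_
      rw [RefStalk.stalkMap_msp (RefHull.bidualMap (kernel c)) (RefStalk.toGen x) v, map_zero]
      exact (congrArg (RefStalk.msp (RefHull.ddual (kernel c)) (RefStalk.toGen x))
        (show RefHull.stalkMapₗ (RefHull.bidualMap (kernel c)) x v = 0 from hv)).trans (map_zero _)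
    refine WeakAssLib.stalkHom_injective (kernel.ι c) x ((?_ : RefHull.stalkMapₗ (kernel.ι c) x v = 0).trans
      (map_zero _).symm)
    refine RefStalk.msp_injective hV.1 x ?_
    rw [← RefStalk.stalkMap_msp (kernel.ι c) (RefStalk.toGen x) v, map_zero, hgen0, map_zero]

/-- The kernel of a map from a reflexive module to an invertible one is reflexive. -/
theorem isReflexive_kernel {V M : X.Modules} (hV : Coh.IsCoh V)
    (hVr : ∀ x : X, Module.IsReflexive (X.presheaf.stalk x) (V.presheaf.stalk x))
    (hM : PicF.IsInvertible M) (c : V ⟶ M) : RefHull.IsReflexive (kernel c) := by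
  haveI := CurveRR.isNoetherian_of_proper k X
  have hMc := CurveRR.isCoh_of_inv hM
  have hn := normal k hdim
  refine RefStalk.isReflexive_of_extension hn (QC.isCoh_kernel hV hMc.1 c) (fun x => ?_) fun U W hWU h => ?_
  · haveI := hVr x
    haveI := RefStalk.isTorsionFree_of_isReflexive (R := X.presheaf.stalk x) (V.presheaf.stalk x)
    exact Function.Injective.moduleIsTorsionFree (RefHull.stalkMapₗ (kernel.ι c) x)
      (WeakAssLib.stalkHom_injective (kernel.ι c) x) fun r m => map_smul (RefHull.stalkMapₗ (kernel.ι c) x) r m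
  have hbV := RefStalk.bijective_res_of_isReflexive hn hV hVr hWU h
  have hbM := RefStalk.bijective_res_of_isReflexive hn hMc (fun x => RefDiv.reflexive_of_isInvertible hM x) hWU h
  have hnat : ∀ {P Q : X.Modules} (f : P ⟶ Q) (t : Γ(P, U)),
      f.app W (P.presheaf.map (homOfLE hWU).op t) = Q.presheaf.map (homOfLE hWU).op (f.app U t) :=
    fun f t => ZCl.app_rs f hWU t
  constructor
  · intro t t' htt
    refine QC.app_injective_of_mono (kernel.ι c) U (hbV.1 ?_)
    rw [← hnat, ← hnat, htt]
  · intro z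
    obtain ⟨t, ht⟩ := hbV.2 ((kernel.ι c).app W z)
    have h0 : c.app U t = 0 := hbM.1 (by rw [← hnat, ht, show c.app W ((kernel.ι c).app W z) = 0 from (QC.mem_range_kernel_app c W _).1 ⟨z, rfl⟩, map_zero])
    obtain ⟨y, hy⟩ := (QC.mem_range_kernel_app c U t).2 h0
    exact ⟨y, QC.app_injective_of_mono (kernel.ι c) W (by rw [hnat, hy, ht])⟩

end Hull

section K3

variable (hK : Canon.IsTopDiff (X ↘ Spec (CommRingCat.of k)) 2 (Coh.structureModule X))

include k hdim hK

/-- Without maps to the structure module the top cohomology vanishes. -/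
theorem h2_eq_zero {F : X.Modules} (hF : Coh.IsCoh F) (h : ∀ φ : F ⟶ Coh.structureModule X, φ = 0) :
    CurveRR.h k F 2 = 0 := by
  haveI := CurveRR.isNoetherian_of_proper k X
  haveI := SurfAdj.smooth2 k hdim (X := X)
  obtain ⟨N, ι, hι₁, hι⟩ := SurfAdj.exists_emb k hdim (X := X)
  haveI := hι₁
  obtain ⟨t, ht⟩ := ExtFund.exists_trace_smooth ι hι (Coh.structureModule X) hK
  haveI : Subsingleton (Module.Dual k (Coh.HH X F 2)) := subsingleton_of_forall_eq 0 fun ψ => by
    obtain ⟨φ, hφ, -⟩ := ht F hF ψ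
    refine LinearMap.ext fun x => (hφ x).trans ?_
    rw [h φ, Functor.map_zero]
    have h4 := Sheaf.H.map_add_apply (0 : (SheafOfModules.toSheaf X.ringCatSheaf).obj F ⟶
      (SheafOfModules.toSheaf X.ringCatSheaf).obj (Coh.structureModule X)) 0 x
    rw [add_zero] at h4
    rw [show Sheaf.H.map (0 : (SheafOfModules.toSheaf X.ringCatSheaf).obj F ⟶
      (SheafOfModules.toSheaf X.ringCatSheaf).obj (Coh.structureModule X)) 2 x = 0 from add_eq_left.1 h4.symm]
    exact map_zero t
  exact Subspace.dual_finrank_eq.symm.trans Module.finrank_zero_of_subsingleton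

/-- A positive Euler characteristic gives a section. -/
theorem exists_hom {F : X.Modules} (hF : Coh.IsCoh F) (h : ∀ φ : F ⟶ Coh.structureModule X, φ = 0)
    (he : 1 ≤ Curv2.euler k X F) : ∃ s : Coh.structureModule X ⟶ F, s ≠ 0 := by
  rw [SurfAdj.euler_eq3 k hdim, h2_eq_zero k hdim hK hF h] at he
  push_cast at he
  have h0 : CurveRR.h k F 0 ≠ 0 := by omega
  have hne : ¬ Subsingleton Γ(F, (⊤ : X.Opens)) := fun hs => h0 (by
    haveI := hs
    haveI : Subsingleton (Coh.HH X F 0) := (CurveRR.secH0 (k := k) F).symm.toEquiv.subsingleton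
    exact Module.finrank_zero_of_subsingleton)
  obtain ⟨x, hx⟩ := @exists_ne _ (not_subsingleton_iff_nontrivial.1 hne) (0 : Γ(F, (⊤ : X.Opens)))
  refine ⟨CohQC.secHom x, fun hs => hx ?_⟩
  have h1 := CohQC.secHom_app_one x ⊤
  rw [hs] at h1
  rw [← QC.res_self F le_rfl x]
  exact h1.symm

variable {L : X.Modules} (hL : CohB1.IsAmple L) [PicGrp.Law X]

include hL

/-- The structure module of a K3 surface has degree zero. -/
theorem δ_structure_eq_zero : δ k L (Coh.structureModule X) = 0 := by
  haveI := CurveRR.isNoetherian_of_proper k X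
  obtain ⟨I, hI, ⟨e⟩⟩ := W7Hull.exists_tensor_inverse hL.1
  have h0 : PicGrp.cls (Coh.structureModule X) TMul.isInvertible_structureModule = PicGrp.cls I hI ^ (0 : ℤ) := by
    rw [zpow_zero]
    exact Subtype.ext PicGrp.one_val.symm
  have hIO := intNum_zpow k (dim_le k hdim) hI (Coh.structureModule X) TMul.isInvertible_structureModule 0 hI h0
  rw [zero_mul, SurfAdj.intNum_comm k hdim] at hIO
  have hrr := SurfAdj.riemann_roch k hdim hK hI
  rw [hIO, sub_zero] at hrr
  rw [δ_structure k hL hI e (dim_le k hdim)]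
  have hq : (2 : ℚ) * Curv2.euler k X I = (FGA.intNum k X 2 ![I, I] (Coh.structureModule X) : ℚ) +
      2 * Curv2.euler k X (Coh.structureModule X) := by exact_mod_cast hrr
  linarith

end K3

variable {L : X.Modules} (hL : CohB1.IsAmple L) [PicGrp.Law X]
  (hgen : ∀ c : PicLoc.PicSet X, ∃ n : ℤ, c = PicGrp.cls L hL.1 ^ n)
  {V : X.Modules} (hst : ShStab.IsStable k X L V 2)

include k hdim hL hgen hst

theorem grk_pos {G : X.Modules} (g : G ⟶ V) [Mono g] (hG : Coh.IsCoh G) (h0 : ¬ IsZero G) : 0 < grk G := by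
  haveI := CurveRR.isNoetherian_of_proper k X
  have hd := hst.2.2.1 G g inferInstance hG h0
  by_contra hc
  have h2 := coeff_two k hdim hL hG
  rw [Nat.eq_zero_of_not_pos hc, Nat.cast_zero, zero_mul] at h2
  obtain ⟨hdeg, hpos⟩ := StabLib.Sh.hp_pos_deg k hL hG hd
  rw [StabLib.Pos, Polynomial.leadingCoeff, hdeg, h2] at hpos
  exact lt_irrefl _ hpos

variable (hVr : grk V = 2)

include hVr

/-- Submodules of rank one have at most half the degree. -/
theorem two_δ_le {G : X.Modules} (g : G ⟶ V) [Mono g] (hG : Coh.IsCoh G) (hGr : grk G = 1) :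
    2 * δ k L G ≤ δ k L V := by
  haveI := CurveRR.isNoetherian_of_proper k X
  have hV := hst.1
  have h0 : ¬ IsZero G := fun hz => by
    have h2 := coeff_two k hdim hL hG
    have h3 := (StabLib.Sh.inv k hL).hp_zero hz hG
    change StabLib.Sh.hp k L G = 0 at h3
    rw [h3, Polynomial.coeff_zero, hGr, Nat.cast_one, one_mul] at h2
    exact (μ_pos k hdim hL).ne h2
  have hni : ¬ IsIso g := fun hi => by
    have := grk_iso (asIso g)
    omega
  obtain ⟨n, hn⟩ := hst.2.2.2 G g inferInstance hG h0 hni _ _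
    ((StabLib.Sh.hilb_iff k hL.1 hG _).2 rfl) ((StabLib.Sh.hilb_iff k hL.1 hV _).2 rfl)
  have hcG := coeff_two k hdim hL hG
  have hcV := coeff_two k hdim hL hV
  rw [hGr, Nat.cast_one, one_mul] at hcG
  rw [hVr] at hcV
  have hμ := μ_pos k hdim hL
  have hdG := natDegree_hp k hdim hL hG
  have hdV := natDegree_hp k hdim hL hV
  let D : ℚ[X] := StabCat.alpha 2 (StabLib.Sh.hp k L V) • StabLib.Sh.hp k L G -
    StabCat.alpha 2 (StabLib.Sh.hp k L G) • StabLib.Sh.hp k L V
  have hD : D.coeff 1 ≤ 0 := by
    refine coeff_one_nonpos ((Polynomial.natDegree_sub_le _ _).trans (max_le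
      ((Polynomial.natDegree_smul_le _ _).trans hdG) ((Polynomial.natDegree_smul_le _ _).trans hdV))) ?_ (N := n) ?_
    · simp only [D, StabCat.alpha, Polynomial.coeff_sub, Polynomial.coeff_smul, smul_eq_mul]
      ring
    · intro m hm
      have h := hn m hm
      simp only [D, Polynomial.eval_sub]
      linarith
  simp only [D, StabCat.alpha, Polynomial.coeff_sub, Polynomial.coeff_smul, smul_eq_mul, hcG, hcV] at hD
  norm_num at hD
  unfold δ
  nlinarith

/-- No maps to invertible modules of nonpositive degree. -/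
theorem hom_eq_zero (hVδ : δ k L V = 2 * δ k L (Coh.structureModule X) + 2 * μ k L)
    {J : X.Modules} (hJ : PicF.IsInvertible J) {j : ℤ}
    (hj : PicGrp.cls J hJ = PicGrp.cls L hL.1 ^ j) (hj0 : j ≤ 0) (φ : V ⟶ J) : φ = 0 := by
  haveI := CurveRR.isNoetherian_of_proper k X
  by_contra hφ
  have hV := hst.1
  have hJc := CurveRR.isCoh_of_inv hJ
  obtain ⟨w, hS⟩ := shortExact_image φ
  have hI : Coh.IsCoh (Abelian.image φ) := QC.isCoh_kernel hJc (QC.isCoh_cokernel hV.1 hJc φ).1 _
  have hK : Coh.IsCoh (kernel φ) := QC.isCoh_kernel hV hJc.1 φ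
  have hI0 : ¬ IsZero (Abelian.image φ) := fun hz => hφ (by
    rw [← Abelian.image.fac φ, hz.eq_of_tgt (Abelian.factorThruImage φ) 0, Limits.zero_comp])
  obtain ⟨hIr, hd1, hIδ⟩ := sub_line k hdim hL hgen hI hJ hI0 (Abelian.image.ι φ)
  have hT := (torsion k hdim hL hgen (QC.isCoh_cokernel hI.1 hJc (Abelian.image.ι φ)) hd1).1
  have hr := grk_add hS hV
  change grk V = grk (kernel φ) + grk (Abelian.image φ) at hr
  have hb := two_δ_le k hdim hL hgen hst hVr (kernel.ι φ) hK (by omega)
  have hd := δ_add k hL hS hK hV hI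
  change δ k L V = δ k L (kernel φ) + δ k L (Abelian.image φ) at hd
  have hl := (line k hdim hL hJ j hj).2
  have hj' : (j : ℚ) ≤ 0 := by exact_mod_cast hj0
  have hμ := μ_pos k hdim hL
  nlinarith

/-- A nonzero map from an invertible module is injective. -/
theorem mono_of_ne_zero {A : X.Modules} (hA : PicF.IsInvertible A) (s : A ⟶ V) (hs : s ≠ 0) : Mono s := by
  haveI := CurveRR.isNoetherian_of_proper k X
  refine Preadditive.mono_of_isZero_kernel _ (by_contra fun hK0 => ?_)
  have hV := hst.1
  have hAc := CurveRR.isCoh_of_inv hA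
  have hKr := (sub_line k hdim hL hgen (QC.isCoh_kernel hAc hV.1 s) hA hK0 (kernel.ι s)).1
  obtain ⟨w, hS⟩ := shortExact_image s
  have hI : Coh.IsCoh (Abelian.image s) := QC.isCoh_kernel hV (QC.isCoh_cokernel hAc.1 hV s).1 _
  have hr := grk_add hS hAc
  change grk A = grk (kernel s) + grk (Abelian.image s) at hr
  have hpos := grk_pos k hdim hL hgen hst (Abelian.image.ι s) hI fun hz => hs (by
    rw [← Abelian.image.fac s, hz.eq_of_tgt (Abelian.factorThruImage s) 0, Limits.zero_comp])
  rw [grk_line hA] at hr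
  omega

end Groth.Agent.StabK3
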