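import Groth.Agent.StabK3.Delta
import Groth.Agent.NegFilt.Basic
import Groth.Agent.RefStalk.Codim
import Groth.Agent.FreeJ.Grothendieck
import Groth.Agent.SerrePn.ClosedTwist
import Groth.Agent.PtPush.Dim

/-!
Submodules of trivial bundles on a surface: above the critical degree they have sections away from
finitely many points.
-/

set_option autoImplicit false
set_option backward.isDefEq.respectTransparency false
set_option backward.isDefEq.respectTransparency.types false
set_option linter.style.haveILetI false
set_option linter.unusedSectionVars false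

universe u

open CategoryTheory CategoryTheory.Limits AlgebraicGeometry TopologicalSpace
open Groth.Agent.Intersect Groth.Agent.StabLib

noncomputable section

namespace Groth.Agent.StabK3

theorem le_of_lt_succ' {d : WithBot ℕ∞} (h : d < ((2 : ℕ) : WithBot ℕ∞)) : d ≤ ((1 : ℕ) : WithBot ℕ∞) := by
  induction d with
  | bot => exact bot_le
  | coe a =>
    induction a with
    | top => exact absurd h (not_lt.2 (WithBot.coe_le_coe.2 le_top))
    | coe b =>
      have hb : ((b : ℕ∞) : WithBot ℕ∞) < ((2 : ℕ∞) : WithBot ℕ∞) := h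
      rw [WithBot.coe_lt_coe] at hb
      have hb' : b < 2 := ENat.coe_lt_coe.1 hb
      exact WithBot.coe_le_coe.2 (ENat.coe_le_coe.2 (Nat.lt_succ_iff.1 hb'))

/-- Off the support of the cokernel a map is onto on stalks. -/
theorem surjective_of_notMem {X : Scheme.{u}} {A B : X.Modules} (φ : A ⟶ B) [Mono φ] (x : X)
    (hx : x ∉ CohB1.support (cokernel φ)) : Function.Surjective (WeakAssLib.stalkHom φ x) := fun v => by
  haveI : Subsingleton ((cokernel φ).presheaf.stalk x) := not_not.1 hx
  exact WeakAssLib.stalk_exact (ShortComplex.mk φ (cokernel.π φ) (cokernel.condition φ))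
    { exact := ShortComplex.exact_cokernel φ, mono_f := ‹_›, epi_g := inferInstance } x v (Subsingleton.elim _ _)

variable (k : Type u) [Field k] [IsAlgClosed k] {X : Scheme.{u}} [X.Over (Spec (CommRingCat.of k))]
  [IsProper (X ↘ Spec (CommRingCat.of k))] [IsIntegral X] [Smooth (X ↘ Spec (CommRingCat.of k))]
  (hdim : topologicalKrullDim X = 2) {L : X.Modules} (hL : CohB1.IsAmple L)

include hL hdim

/-- A nonzero submodule of the structure module: degree and cokernel. -/
theorem ideal_step {J : X.Modules} (hJ : Coh.IsCoh J) (h0 : ¬ IsZero J) (f : J ⟶ Coh.structureModule X) [Mono f]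
    (hO : δ k L (Coh.structureModule X) = 0) :
    topologicalKrullDim (CohB1.support (cokernel f)) ≤ (1 : ℕ) ∧ δ k L (cokernel f) = -δ k L J := by
  haveI := CurveRR.isNoetherian_of_proper k X
  have hOc : Coh.IsCoh (Coh.structureModule X) := RefStalk.isCoh_structureModule
  have hQ : Coh.IsCoh (cokernel f) := QC.isCoh_cokernel hJ.1 hOc f
  constructor
  · have hf : f ≠ 0 := fun h => h0 (IsZero.of_mono_eq_zero f h)
    have hη : genericPoint X ∉ CohB1.support (cokernel f) := CurveRR.notMem_support_coker f _
      (CurveRR.surjective_stalk_generic TMul.isInvertible_structureModule f hf)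
    have hne : CohB1.support (cokernel f) ≠ Set.univ := fun h => hη (h ▸ Set.mem_univ _)
    have h := FreeJ.dim_lt_of_proper (n := 2) (hdim.trans_lt (by norm_cast)) _ (QC.isClosed_support hQ.2) hne
    exact le_of_lt_succ' h
  · have h := (StabLib.Sh.inv k hL).hp_cokernel f hJ hOc
    change StabLib.Sh.hp k L _ = StabLib.Sh.hp k L J + StabLib.Sh.hp k L (cokernel f) at h
    rw [δ, h, Polynomial.coeff_add] at hO
    unfold δ
    linarith

/-- The degree of a free module. -/
theorem δ_freeMod (hO : δ k L (Coh.structureModule X) = 0) : ∀ m, δ k L (FlatMod.freeMod X m) = 0 := by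
  haveI := CurveRR.isNoetherian_of_proper k X
  intro m
  induction m with
  | zero => exact δ_zero k hL (NegFilt.isCoh_freeMod 0) ((IsZero.iff_id_eq_zero _).2 (Sigma.hom_ext _ _ fun t => t.elim0))
  | succ m ih =>
    obtain ⟨π, h1, h2, h3⟩ := P1Split.exists_proj (fun _ : Fin (m + 1) => Coh.structureModule X)
    let s : FlatMod.freeMod X m ⟶ FlatMod.freeMod X (m + 1) :=
      Sigma.desc fun i => Sigma.ι (fun _ : Fin (m + 1) => Coh.structureModule X) i.succ
    let r : FlatMod.freeMod X (m + 1) ⟶ FlatMod.freeMod X m :=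
      ∑ i : Fin m, π i.succ ≫ Sigma.ι (fun _ : Fin m => Coh.structureModule X) i
    have hz : Sigma.ι (fun _ : Fin (m + 1) => Coh.structureModule X) 0 ≫ r = 0 := by
      rw [Preadditive.comp_sum]
      refine Finset.sum_eq_zero fun i _ => ?_
      rw [← Category.assoc, h2 0 i.succ (Fin.succ_ne_zero i).symm, zero_comp]
    let S : ShortComplex X.Modules := ShortComplex.mk _ r hz
    have hsr : s ≫ r = 𝟙 _ := Sigma.hom_ext _ _ fun j => by
      rw [Category.comp_id, Sigma.ι_desc_assoc, Preadditive.comp_sum, Finset.sum_eq_single j]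
      · rw [← Category.assoc, h1, Category.id_comp]
      · intro i _ hi
        rw [← Category.assoc, h2 j.succ i.succ fun h => hi (Fin.succ_injective _ h).symm, zero_comp]
      · exact fun h => absurd (Finset.mem_univ _) h
    have hid : π 0 ≫ Sigma.ι (fun _ : Fin (m + 1) => Coh.structureModule X) 0 + r ≫ s = 𝟙 _ := by
      conv_rhs => rw [← h3, Fin.sum_univ_succ]
      congr 1
      rw [Preadditive.sum_comp]
      refine Finset.sum_congr rfl fun i _ => ?_
      rw [Category.assoc, Sigma.ι_desc]
    have hS : S.Splitting := { r := π 0, s := s, f_r := h1 0, s_g := hsr, id := hid }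
    have h := δ_add k hL hS.shortExact RefStalk.isCoh_structureModule (NegFilt.isCoh_freeMod _) (NegFilt.isCoh_freeMod _)
    change δ k L (FlatMod.freeMod X (m + 1)) = δ k L (Coh.structureModule X) + δ k L (FlatMod.freeMod X m) at h
    rw [h, hO, ih, add_zero]

variable [PicGrp.Law X] {I : X.Modules} (hI : PicF.IsInvertible I)
  (hgen : ∀ c : PicLoc.PicSet X, ∃ n : ℤ, c = PicGrp.cls I hI ^ n)
  (hII : 0 < FGA.intNum k X 2 ![I, I] (Coh.structureModule X))
  (hLI : ClSub.IsInverseOf L I)

include hI hgen hII hLI

/-- A submodule of a trivial bundle above the critical degree has a section away from finitely many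
points. -/
theorem exists_section (hO : δ k L (Coh.structureModule X) = 0) :
    ∀ (m : ℕ) {G : X.Modules} (_ : Coh.IsCoh G) (p : Fin m → (G ⟶ Coh.structureModule X)),
      (∀ {Z : X.Modules} (g : Z ⟶ G), (∀ j, g ≫ p j = 0) → g = 0) → ¬ IsZero G →
      -(FGA.intNum k X 2 ![I, I] (Coh.structureModule X) : ℚ) < δ k L G →
      ∃ (U : X.Opens) (_ : topologicalKrullDim ((U : Set X)ᶜ : Set X) ≤ 0) (s : Γ(G, U)), s ≠ 0 := by
  haveI := CurveRR.isNoetherian_of_proper k X
  intro m
  induction m with
  | zero =>
    intro G hG p hp h0 hd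
    exact absurd ((IsZero.iff_id_eq_zero G).2 (hp (𝟙 G) fun j => j.elim0)) h0
  | succ m ih =>
    intro G hG p hp h0 hd
    have hOc : Coh.IsCoh (Coh.structureModule X) := RefStalk.isCoh_structureModule
    have hK : Coh.IsCoh (kernel (p 0)) := QC.isCoh_kernel hG hOc.1 (p 0)
    by_cases hK0 : IsZero (kernel (p 0))
    · haveI : Mono (p 0) := Preadditive.mono_of_isZero_kernel (p 0) hK0
      obtain ⟨hd1, hQδ⟩ := ideal_step k hdim hL hG h0 (p 0) hO
      have hQ : Coh.IsCoh (cokernel (p 0)) := QC.isCoh_cokernel hG.1 hOc (p 0)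
      have hsmall := (δ_torsion k hL hdim hI hgen hII hLI hQ hd1).2 (by rw [hQδ]; linarith)
      let U : X.Opens := ⟨(CohB1.support (cokernel (p 0)))ᶜ, (QC.isClosed_support hQ.2).isOpen_compl⟩
      have hUc : ((U : Set X)ᶜ : Set X) = CohB1.support (cokernel (p 0)) := compl_compl _
      refine ⟨U, by rw [hUc]; exact hsmall.trans_eq (by norm_cast), ?_⟩
      have hbij : Function.Bijective ((p 0).app U) := RefStalk.bijective_app_of_stalk (p 0) fun x hx =>
        ⟨WeakAssLib.stalkHom_injective (p 0) x, surjective_of_notMem (p 0) x hx⟩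
      obtain ⟨s, hs⟩ := hbij.2 (1 : Γ(X, U))
      refine ⟨s, fun hs0 => ?_⟩
      rw [hs0, map_zero] at hs
      haveI : Nonempty U := ⟨⟨genericPoint X, fun hmem => CurveRR.notMem_support_coker (p 0) _
        (CurveRR.surjective_stalk_generic TMul.isInvertible_structureModule (p 0)
          fun h => h0 (IsZero.of_mono_eq_zero _ h)) hmem⟩⟩
      exact one_ne_zero (α := Γ(X, U)) hs.symm
    · have him : δ k L G = δ k L (kernel (p 0)) + δ k L (Abelian.image (p 0)) := by
        have e := Inv.hp_image (I := StabLib.Sh.inv k hL) hG hOc (p 0)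
        change StabLib.Sh.hp k L G = StabLib.Sh.hp k L (kernel (p 0)) + StabLib.Sh.hp k L (Abelian.image (p 0)) at e
        rw [δ, e, Polynomial.coeff_add]
        rfl
      have hIm : Coh.IsCoh (Abelian.image (p 0)) := Inv.ok_image (I := StabLib.Sh.inv k hL) hG hOc (p 0)
      have hle : δ k L (Abelian.image (p 0)) ≤ 0 := by
        by_cases hz : IsZero (Abelian.image (p 0))
        · exact (δ_zero k hL hIm hz).le
        · obtain ⟨hd1, hQδ⟩ := ideal_step k hdim hL hIm hz (Abelian.image.ι (p 0)) hO
          have hQ : Coh.IsCoh (cokernel (Abelian.image.ι (p 0))) := QC.isCoh_cokernel hIm.1 hOc _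
          have := (δ_torsion k hL hdim hI hgen hII hLI hQ hd1).1
          linarith
      obtain ⟨U, hU, s, hs⟩ := ih hK (fun j => kernel.ι (p 0) ≫ p j.succ) (fun {Z} g hg => by
          refine (cancel_mono (kernel.ι (p 0))).1 ((hp _ fun j => ?_).trans zero_comp.symm)
          refine Fin.cases ?_ (fun i => ?_) j
          · rw [Category.assoc, kernel.condition, comp_zero]
          · rw [Category.assoc]; exact hg i) hK0 (by linarith)
      exact ⟨U, hU, (kernel.ι (p 0)).app U s, fun h => hs
        (QC.app_injective_of_mono (kernel.ι (p 0)) U (h.trans (map_zero _).symm))⟩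

end Groth.Agent.StabK3
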